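import Mathlib

/-!
Coprime linear actions in which every vector has an orbit of `p`-power size.
-/

set_option autoImplicit false

namespace CfsgLib.PPowOrbit

open Subgroup

variable {q : ℕ} {H : Type*} [Group H] {V : Type*} [AddCommGroup V] [Module (ZMod q) V]
  (ρ : H →* Module.End (ZMod q) V)

theorem mul_apply (a b : H) (v : V) : ρ (a * b) v = ρ a (ρ b v) := by
  rw [map_mul, Module.End.mul_apply]

theorem one_apply (v : V) : ρ 1 v = v := by rw [map_one, Module.End.one_apply]

theorem inv_apply_apply (a : H) (v : V) : ρ a⁻¹ (ρ a v) = v := by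
  rw [← mul_apply, inv_mul_cancel, one_apply]

theorem apply_inv_apply (a : H) (v : V) : ρ a (ρ a⁻¹ v) = v := by
  rw [← mul_apply, mul_inv_cancel, one_apply]

theorem apply_injective (a : H) : Function.Injective (ρ a) :=
  Function.LeftInverse.injective (inv_apply_apply ρ a)

/-- The elements fixing a vector. -/
def fixer (v : V) : Subgroup H where
  carrier := {h | ρ h v = v}
  one_mem' := one_apply ρ v
  mul_mem' {a b} ha hb := show ρ (a * b) v = v by
    rw [mul_apply, show ρ b v = v from hb, show ρ a v = v from ha]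
  inv_mem' {a} ha := show ρ a⁻¹ v = v by
    conv_lhs => rw [← show ρ a v = v from ha]
    exact inv_apply_apply ρ a v

theorem mem_fixer {h : H} {v : V} : h ∈ fixer ρ v ↔ ρ h v = v := Iff.rfl

/-- Every orbit has `p`-power size. -/
def IsPPow (p : ℕ) : Prop := ∀ v : V, ∃ k, (fixer ρ v).index = p ^ k

/-- No invariant subspace. -/
def Irred : Prop :=
  ∀ W : Submodule (ZMod q) V, (∀ h, ∀ w ∈ W, ρ h w ∈ W) → W = ⊥ ∨ W = ⊤

/-- The common fixed vectors of a subgroup. -/
def fixSpace (B : Subgroup H) : Submodule (ZMod q) V where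
  carrier := {v | ∀ b ∈ B, ρ b v = v}
  add_mem' {x y} hx hy := fun b hb => by rw [map_add, hx b hb, hy b hb]
  zero_mem' := fun b _ => map_zero _
  smul_mem' c x hx := fun b hb => by rw [map_smul, hx b hb]

theorem mem_fixSpace {B : Subgroup H} {v : V} : v ∈ fixSpace ρ B ↔ ∀ b ∈ B, ρ b v = v := Iff.rfl

variable {ρ} {p : ℕ} [hpF : Fact p.Prime]

theorem IsPPow.index_dvd (hρ : IsPPow ρ p) {v : V} {K : Subgroup H} (hK : fixer ρ v ≤ K) :
    ∃ k, K.index = p ^ k := by
  obtain ⟨k, hk⟩ := hρ v
  obtain ⟨j, -, hj⟩ := (Nat.dvd_prime_pow hpF.out).1 (hk ▸ Subgroup.index_dvd_of_le hK)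
  exact ⟨j, hj⟩

theorem IsPPow.comp_normal [Finite H] (hρ : IsPPow ρ p) (N : Subgroup H) [N.Normal] :
    IsPPow (ρ.comp N.subtype) p := by
  intro v
  obtain ⟨k, hk⟩ := hρ v
  set S := fixer ρ v
  have h1 : (fixer (ρ.comp N.subtype) v).index = S.relIndex N := rfl
  have h2 : S.relIndex N ∣ S.index := by
    refine Dvd.intro (S ⊔ N).index ?_
    have e1 : S.relIndex N * N.index = (S ⊓ N).index := by
      rw [← Subgroup.inf_relIndex_right, Subgroup.relIndex_mul_index inf_le_right]
    have e2 : N.relIndex S * S.index = (S ⊓ N).index := by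
      rw [← Subgroup.inf_relIndex_left, Subgroup.relIndex_mul_index inf_le_left]
    have e3 : N.relIndex S * (S ⊔ N).index = N.index := by
      rw [← Subgroup.relIndex_sup_right S N, Subgroup.relIndex_mul_index le_sup_right]
    have hpos : 0 < N.relIndex S := Nat.pos_of_ne_zero fun h => by
      rw [h, zero_mul] at e3
      exact Subgroup.index_ne_zero_of_finite e3.symm
    refine Nat.eq_of_mul_eq_mul_left hpos ?_
    rw [e2, ← e1, ← e3]
    ring
  obtain ⟨j, -, hj⟩ := (Nat.dvd_prime_pow hpF.out).1 (hk ▸ h2)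
  exact ⟨j, h1.trans hj⟩

variable [Finite H]

/-- A Sylow `p`-subgroup has the same orbits. -/
theorem exists_sylow_apply (hρ : IsPPow ρ p) (P : Sylow p H) (v : V) (h : H) :
    ∃ u ∈ (P : Subgroup H), ρ h v = ρ u v := by
  classical
  set S := fixer ρ v
  obtain ⟨k, hk⟩ := hρ v
  set P' : Subgroup H := (P : Subgroup H)
  have hcard : Nat.card H = Nat.card S * p ^ k := by rw [← hk, Subgroup.card_mul_index]
  obtain ⟨n, hn⟩ := P.2.exists_card_eq
  -- the orbit of `P` is everything
  let f : P' ⧸ S.subgroupOf P' → H ⧸ S := Quotient.lift (fun u => ((u : H) : H ⧸ S)) fun a b hab => by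
    have hab' : a⁻¹ * b ∈ S.subgroupOf P' := QuotientGroup.leftRel_apply.1 hab
    exact QuotientGroup.eq.2 (by simpa [Subgroup.mem_subgroupOf] using hab')
  have hf : Function.Injective f := by
    intro a b hab
    induction a using QuotientGroup.induction_on with | _ a =>
    induction b using QuotientGroup.induction_on with | _ b =>
    refine QuotientGroup.eq.2 ?_
    rw [Subgroup.mem_subgroupOf]
    simpa using QuotientGroup.eq.1 (hab : ((a : H) : H ⧸ S) = ((b : H) : H ⧸ S))
  have hbig : Nat.card (H ⧸ S) ≤ Nat.card (P' ⧸ S.subgroupOf P') := by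
    rw [← Subgroup.index_eq_card, ← Subgroup.index_eq_card, hk]
    -- the part of `S` in `P` is at most the `p`-part of `S`
    obtain ⟨j, -, hj⟩ := (Nat.dvd_prime_pow hpF.out).1
      (hn ▸ (S.subgroupOf P').index_dvd_card)
    rw [hj]
    refine Nat.pow_le_pow_right hpF.out.pos ?_
    obtain ⟨i, -, hi⟩ := (Nat.dvd_prime_pow hpF.out).1
      (hn ▸ (S.subgroupOf P').card_subgroup_dvd_card)
    have hsum : i + j = n := by
      have := (S.subgroupOf P').card_mul_index
      rw [hi, hj, hn, ← pow_add] at this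
      exact Nat.pow_right_injective hpF.out.two_le this
    have hiS : p ^ i ∣ Nat.card S :=
      hi ▸ Subgroup.card_dvd_of_injective ((Subgroup.inclusion (inf_le_left : S ⊓ P' ≤ S)).comp
          ({ toFun := fun x => ⟨((x : P') : H), Subgroup.mem_inf.2 ⟨x.2, (x : P').2⟩⟩
             map_one' := rfl
             map_mul' := fun _ _ => rfl } : ↥(S.subgroupOf P') →* ↥(S ⊓ P')))
        (fun a b hab => Subtype.ext (Subtype.ext (congrArg (fun x : S => (x : H)) hab)))
    have hfac : n = (Nat.card H).factorization p :=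
      Nat.pow_right_injective hpF.out.two_le (hn.symm.trans P.card_eq_multiplicity)
    have : i + k ≤ n := by
      rw [hfac]
      exact (hpF.out.pow_dvd_iff_le_factorization Nat.card_pos.ne').1
        (hcard ▸ pow_add p i k ▸ Nat.mul_dvd_mul_right hiS _)
    omega
  have hbij := (Nat.bijective_iff_injective_and_card f).2
    ⟨hf, le_antisymm (Nat.card_le_card_of_injective f hf) hbig⟩
  obtain ⟨x, hx⟩ := hbij.2 (h : H ⧸ S)
  induction x using QuotientGroup.induction_on with | _ u =>
  refine ⟨u, u.2, ?_⟩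
  have hm : ρ ((u : H)⁻¹ * h) v = v := QuotientGroup.eq.1 (hx : ((u : H) : H ⧸ S) = (h : H ⧸ S))
  rw [← apply_inv_apply ρ (u : H) (ρ h v), ← mul_apply ρ (u : H)⁻¹ h v, hm]

/-- A union of `P`-orbits is invariant. -/
theorem invariant_of_sylow (hρ : IsPPow ρ p) (P : Sylow p H) {S : Set V}
    (hS : ∀ u ∈ (P : Subgroup H), ∀ v ∈ S, ρ u v ∈ S) (h : H) {v : V} (hv : v ∈ S) : ρ h v ∈ S := by
  obtain ⟨u, hu, e⟩ := exists_sylow_apply hρ P v h
  exact e ▸ hS u hu v hv

/-- A normal subgroup of order prime to `p` acts trivially. -/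
theorem eq_bot_of_not_dvd (hρ : IsPPow ρ p) (hinj : Function.Injective ρ) (N : Subgroup H) [N.Normal]
    (hN : ¬ p ∣ Nat.card N) : N = ⊥ := by
  rw [eq_bot_iff]
  intro n hn
  rw [Subgroup.mem_bot]
  refine hinj (LinearMap.ext fun v => ?_)
  obtain ⟨k, hk⟩ := hρ.comp_normal N v
  have hk0 : k = 0 := by
    by_contra hne
    exact hN ((dvd_pow_self p hne).trans (hk ▸ Subgroup.index_dvd_card _))
  rw [hk0, pow_zero, Subgroup.index_eq_one] at hk
  have : (⟨n, hn⟩ : N) ∈ fixer (ρ.comp N.subtype) v := hk ▸ Subgroup.mem_top _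
  rw [one_apply]
  exact this

theorem inverse_card [Fact q.Prime] (hq : ¬ q ∣ Nat.card H) {c : ℕ} (hc : c ∣ Nat.card H) :
    (c : ZMod q) ≠ 0 := fun h => hq (((ZMod.natCast_eq_zero_iff c q).1 h).trans hc)

/-- An element acting trivially on an invariant subspace and on the quotient is trivial. -/
theorem eq_one_of_stabilizes [Fact q.Prime] (hq : ¬ q ∣ Nat.card H) (hinj : Function.Injective ρ)
    {h : H} (hh : ∀ v, ρ h (ρ h v - v) = ρ h v - v) : h = 1 := by
  have hpow : ∀ (j : ℕ) (v : V), ρ (h ^ j) v = v + (j : ℕ) • (ρ h v - v) := by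
    intro j v
    induction j with
    | zero => simp
    | succ j ih =>
      rw [pow_succ', mul_apply, ih, map_add, map_nsmul, hh, succ_nsmul]
      abel
  refine hinj (LinearMap.ext fun v => ?_)
  rw [one_apply]
  have h1 := hpow (orderOf h) v
  rw [pow_orderOf_eq_one, one_apply, left_eq_add, ← Nat.cast_smul_eq_nsmul (ZMod q)] at h1
  have := (smul_eq_zero.1 h1).resolve_left (inverse_card hq (orderOf_dvd_natCard h))
  exact sub_eq_zero.1 this

end CfsgLib.PPowOrbit
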