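import Cfsg.Agent.PPowOrbit.Basic
import Cfsg.Agent.S0675

/-!
Decompositions invariant under a Sylow subgroup are invariant under the whole group, and do not exist
for perfect irreducible groups when there are `p` summands.
-/

set_option autoImplicit false

namespace CfsgLib.PPowOrbit

open Subgroup

variable {q : ℕ} [Fact q.Prime] {H : Type*} [Group H] [Finite H] {V : Type*} [AddCommGroup V]
  [Module (ZMod q) V] {ρ : H →* Module.End (ZMod q) V} {p : ℕ} [Fact p.Prime]

/-- A decomposition of `V` given by projections, permuted by a Sylow subgroup. -/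
structure Decomp (ρ : H →* Module.End (ZMod q) V) (P : Sylow p H) (ι : Type*) [Fintype ι] where
  U : ι → Submodule (ZMod q) V
  e : ι → Module.End (ZMod q) V
  mem : ∀ i v, e i v ∈ U i
  sum : ∀ v, ∑ i, e i v = v
  self : ∀ i, ∀ v ∈ U i, e i v = v
  other : ∀ i j, i ≠ j → ∀ v ∈ U i, e j v = 0
  ne_bot : ∀ i, U i ≠ ⊥
  perm : ∀ u ∈ (P : Subgroup H), ∀ i, ∃ j, ∀ v ∈ U i, ρ u v ∈ U j

variable {P : Sylow p H} {ι : Type*} [Fintype ι] (D : Decomp ρ P ι)

theorem Decomp.exists_ne (i : ι) : ∃ v ∈ D.U i, v ≠ 0 :=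
  (D.U i).exists_mem_ne_zero_of_ne_bot (D.ne_bot i)

theorem Decomp.unique {v : V} (hv : v ≠ 0) {i j : ι} (hi : v ∈ D.U i) (hj : v ∈ D.U j) : i = j := by
  by_contra h
  exact hv ((D.self j v hj).symm.trans (D.other i j h v hi))

theorem Decomp.exists_image (hρ : IsPPow ρ p) (h : H) (i : ι) :
    ∃ j, ∀ v ∈ D.U i, ρ h v ∈ D.U j := by
  have key : ∀ v ∈ D.U i, ∃ j, ρ h v ∈ D.U j := fun v hv => by
    refine invariant_of_sylow hρ P (S := {w | ∃ j, w ∈ D.U j}) (fun u hu w hw => ?_) h ⟨i, hv⟩
    obtain ⟨j, hj⟩ := hw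
    obtain ⟨k, hk⟩ := D.perm u hu j
    exact ⟨k, hk w hj⟩
  obtain ⟨v0, hv0, hv0ne⟩ := D.exists_ne i
  obtain ⟨j, hj⟩ := key v0 hv0
  refine ⟨j, fun w hw => ?_⟩
  obtain ⟨k, hk⟩ := key w hw
  by_contra hjw
  have hjk : j ≠ k := fun e => hjw (e ▸ hk)
  obtain ⟨l, hl⟩ := key (v0 + w) (add_mem hv0 hw)
  rw [map_add] at hl
  have h0 : ρ h v0 ≠ 0 := fun e => hv0ne (apply_injective ρ h (e.trans (map_zero _).symm))
  have hw0 : ρ h w ≠ 0 := fun e => hjw (e ▸ zero_mem _)
  rcases eq_or_ne l j with rfl | hlj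
  · have := D.other l k hjk _ hl
    rw [map_add, D.other l k hjk _ hj, zero_add, D.self k _ hk] at this
    exact hw0 this
  · have := D.other l j hlj _ hl
    rw [map_add, D.self j _ hj, D.other k j (Ne.symm hjk) _ hk, add_zero] at this
    exact h0 this

/-- The image of a summand. -/
noncomputable def Decomp.img (hρ : IsPPow ρ p) (h : H) (i : ι) : ι :=
  Classical.choose (D.exists_image hρ h i)

theorem Decomp.img_spec (hρ : IsPPow ρ p) (h : H) {i : ι} {v : V} (hv : v ∈ D.U i) :
    ρ h v ∈ D.U (D.img hρ h i) :=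
  Classical.choose_spec (D.exists_image hρ h i) v hv

theorem Decomp.img_eq (hρ : IsPPow ρ p) {h : H} {i j : ι} {v : V} (hv : v ∈ D.U i) (h0 : v ≠ 0)
    (hj : ρ h v ∈ D.U j) : D.img hρ h i = j :=
  D.unique (fun e => h0 (apply_injective ρ h (e.trans (map_zero _).symm))) (D.img_spec hρ h hv) hj

theorem Decomp.img_mul (hρ : IsPPow ρ p) (a b : H) (i : ι) :
    D.img hρ (a * b) i = D.img hρ a (D.img hρ b i) := by
  obtain ⟨v, hv, h0⟩ := D.exists_ne i
  refine D.img_eq hρ hv h0 ?_
  rw [mul_apply]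
  exact D.img_spec hρ a (D.img_spec hρ b hv)

theorem Decomp.img_one (hρ : IsPPow ρ p) (i : ι) : D.img hρ 1 i = i := by
  obtain ⟨v, hv, h0⟩ := D.exists_ne i
  exact D.img_eq hρ hv h0 (by rwa [one_apply])

/-- The action on the summands. -/
noncomputable def Decomp.hom (hρ : IsPPow ρ p) : H →* Equiv.Perm ι where
  toFun h := ⟨D.img hρ h, D.img hρ h⁻¹,
    fun i => by rw [← D.img_mul, inv_mul_cancel, D.img_one],
    fun i => by rw [← D.img_mul, mul_inv_cancel, D.img_one]⟩
  map_one' := Equiv.ext (D.img_one hρ)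
  map_mul' a b := Equiv.ext (D.img_mul hρ a b)

/-- The summands form one orbit of the Sylow subgroup. -/
theorem Decomp.transitive (hρ : IsPPow ρ p) (hirr : Irred ρ) (i j : ι) :
    ∃ u ∈ (P : Subgroup H), D.img hρ u i = j := by
  classical
  let W : Submodule (ZMod q) V :=
    { carrier := {v | ∀ k, (∀ h, D.img hρ h i ≠ k) → D.e k v = 0}
      add_mem' := fun {x y} hx hy k hk => by rw [map_add, hx k hk, hy k hk, add_zero]
      zero_mem' := fun k _ => map_zero _
      smul_mem' := fun c x hx k hk => by rw [map_smul, hx k hk, smul_zero] }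
  have hW : ∀ h, ∀ w ∈ W, ρ h w ∈ W := by
    intro h w hw k hk
    rw [← D.sum w, map_sum, map_sum]
    refine Finset.sum_eq_zero fun l _ => ?_
    by_cases hl : ∃ g, D.img hρ g i = l
    · obtain ⟨g, hg⟩ := hl
      have hmem := D.img_spec hρ h (D.mem l w)
      refine D.other _ k (fun e => hk (h * g) ?_) _ hmem
      rw [D.img_mul, hg, e]
    · push Not at hl
      rw [hw l hl, map_zero, map_zero]
  obtain ⟨v, hv, h0⟩ := D.exists_ne i
  rcases hirr W hW with hb | ht
  · have : v ∈ W := fun k hk => D.other i k (fun e => hk 1 (by rw [D.img_one, e])) v hv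
    rw [hb, Submodule.mem_bot] at this
    exact absurd this h0
  · obtain ⟨g, hg⟩ : ∃ g, D.img hρ g i = j := by
      by_contra! hj
      obtain ⟨w, hw, hw0⟩ := D.exists_ne j
      have hwW : w ∈ W := ht ▸ Submodule.mem_top
      exact hw0 ((D.self j w hw).symm.trans (hwW j hj))
    obtain ⟨u, hu, he⟩ := exists_sylow_apply hρ P v g
    exact ⟨u, hu, D.img_eq hρ hv h0 (he ▸ hg ▸ D.img_spec hρ g hv)⟩

theorem apply_eq_one_of_commutator {A : Type*} [CommGroup A] (hperf : commutator H = ⊤)
    (f : H →* A) (h : H) : f h = 1 :=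
  Abelianization.commutator_subset_ker f (hperf ▸ Subgroup.mem_top h)

include D in
/-- A perfect irreducible group has no decomposition into `p` summands. -/
theorem Decomp.false_of_card (hρ : IsPPow ρ p) (hirr : Irred ρ) (hperf : commutator H = ⊤)
    (hcard : Fintype.card ι = p) : False := by
  classical
  have hp : p.Prime := Fact.out
  set φ := D.hom hρ with hφ
  set T := φ.range
  haveI : MulAction.IsPretransitive T ι := ⟨fun i j => by
    obtain ⟨u, -, he⟩ := D.transitive hρ hirr i j
    exact ⟨⟨φ u, u, rfl⟩, he⟩⟩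
  -- a solvable image is trivial
  have hns : ¬ Group.IsSolvable T := by
    intro hs
    haveI := hs
    have hne : Nontrivial T := by
      haveI : Nontrivial ι := Fintype.one_lt_card_iff_nontrivial.1 (hcard ▸ hp.one_lt)
      obtain ⟨i, j, hij⟩ := exists_pair_ne ι
      obtain ⟨t, ht⟩ := MulAction.exists_smul_eq T i j
      exact ⟨t, 1, fun e => hij (by rw [← ht, e, one_smul])⟩
    have hTperf : commutator T = ⊤ := by
      rw [eq_top_iff, ← MonoidHom.range_eq_top.2 φ.rangeRestrict_surjective, MonoidHom.range_eq_map,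
        ← hperf, _root_.commutator_def, Subgroup.map_commutator, ← MonoidHom.range_eq_map,
        MonoidHom.range_eq_top.2 φ.rangeRestrict_surjective]
      exact le_of_eq (_root_.commutator_def T).symm
    exact absurd hTperf (IsSolvable.commutator_lt_top_of_nontrivial T).ne
  have hp3 : 3 < p := by
    by_contra hle
    refine hns ?_
    have halt : ∀ h, φ h ∈ alternatingGroup ι := fun h => by
      rw [Equiv.Perm.mem_alternatingGroup]
      exact apply_eq_one_of_commutator hperf (Equiv.Perm.sign.comp φ) h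
    have hA : ∀ a b : alternatingGroup ι, a * b = b * a := by
      haveI : Nontrivial ι := Fintype.one_lt_card_iff_nontrivial.1 (hcard ▸ hp.one_lt)
      have h2 := nat_card_alternatingGroup (α := ι)
      rw [Nat.card_eq_fintype_card (α := ι), hcard] at h2
      have hle3 : Nat.card (alternatingGroup ι) ≤ 3 := by
        rw [h2]
        exact (Nat.div_le_div_right (Nat.factorial_le (Nat.not_lt.1 hle))).trans (by decide)
      intro a b
      rcases Nat.lt_or_ge 1 (Nat.card (alternatingGroup ι)) with hlt | h1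
      · have hpr : (Nat.card (alternatingGroup ι)).Prime := by
          interval_cases Nat.card (alternatingGroup ι) <;> norm_num
        haveI := Fact.mk hpr
        haveI := isCyclic_of_prime_card (α := alternatingGroup ι) rfl
        exact IsMulCommutative.is_comm.comm a b
      · haveI := (Nat.card_eq_one_iff_unique.1 (le_antisymm h1 Nat.card_pos)).1
        exact Subsingleton.elim _ _
    refine ⟨⟨1, ?_⟩⟩
    rw [derivedSeries_one, _root_.commutator_def, Subgroup.commutator_eq_bot_iff_le_centralizer]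
    rintro ⟨_, a, rfl⟩ - ⟨_, b, rfl⟩ -
    exact Subtype.ext (congrArg Subtype.val (hA ⟨φ b, halt b⟩ ⟨φ a, halt a⟩) :)
  rcases Cfsg.Agent.S0675.result (hcard ▸ hp) T with hs | h2
  · exact hns hs
  -- vectors supported on two summands
  obtain ⟨i, j, hij⟩ : ∃ i j : ι, i ≠ j := Fintype.exists_pair_of_one_lt_card (hcard ▸ hp.one_lt)
  obtain ⟨a, ha, ha0⟩ := D.exists_ne i
  obtain ⟨b, hb, hb0⟩ := D.exists_ne j
  let K : Subgroup H :=
    { carrier := {h | (φ h i = i ∧ φ h j = j) ∨ (φ h i = j ∧ φ h j = i)}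
      one_mem' := Or.inl (by simp)
      mul_mem' := by
        rintro x y (⟨x1, x2⟩ | ⟨x1, x2⟩) (⟨y1, y2⟩ | ⟨y1, y2⟩) <;>
          simp [map_mul, Equiv.Perm.mul_apply, x1, x2, y1, y2]
      inv_mem' := by
        rintro x (⟨x1, x2⟩ | ⟨x1, x2⟩)
        · exact Or.inl ⟨by rw [map_inv, Equiv.Perm.inv_eq_iff_eq, x1],
            by rw [map_inv, Equiv.Perm.inv_eq_iff_eq, x2]⟩
        · exact Or.inr ⟨by rw [map_inv, Equiv.Perm.inv_eq_iff_eq, x2],
            by rw [map_inv, Equiv.Perm.inv_eq_iff_eq, x1]⟩ }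
  have hfix : fixer ρ (a + b) ≤ K := by
    intro h hh
    rw [mem_fixer, map_add] at hh
    have hmem : ∀ k, k ≠ i → k ≠ j → D.e k (a + b) = 0 := fun k hki hkj => by
      rw [map_add, D.other i k (Ne.symm hki) a ha, D.other j k (Ne.symm hkj) b hb, add_zero]
    have hne : φ h i ≠ φ h j := fun e => hij ((φ h).injective e)
    have hi' : ρ h a ∈ D.U (φ h i) := D.img_spec hρ h ha
    have hj' : ρ h b ∈ D.U (φ h j) := D.img_spec hρ h hb
    have key : ∀ k, k = φ h i ∨ k = φ h j → k = i ∨ k = j := by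
      intro k hk
      by_contra! hk'
      have h0 := hmem k hk'.1 hk'.2
      rw [← hh, map_add] at h0
      rcases hk with rfl | rfl
      · rw [D.self _ _ hi', D.other _ _ (Ne.symm hne) _ hj', add_zero] at h0
        exact ha0 (apply_injective ρ h (h0.trans (map_zero _).symm))
      · rw [D.self _ _ hj', D.other _ _ hne _ hi', zero_add] at h0
        exact hb0 (apply_injective ρ h (h0.trans (map_zero _).symm))
    rcases key _ (Or.inl rfl) with h1 | h1 <;> rcases key _ (Or.inr rfl) with h2 | h2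
    · exact absurd (h1.trans h2.symm) hne
    · exact Or.inl ⟨h1, h2⟩
    · exact Or.inr ⟨h1, h2⟩
    · exact absurd (h1.trans h2.symm) hne
  obtain ⟨k, hk⟩ := hρ.index_dvd hfix
  -- the ordered pairs
  let S : Subgroup H :=
    { carrier := {h | φ h i = i ∧ φ h j = j}
      one_mem' := by simp
      mul_mem' := fun {x y} hx hy => by
        simp [map_mul, Equiv.Perm.mul_apply, hx.1, hx.2, hy.1, hy.2]
      inv_mem' := fun {x} hx => ⟨by rw [map_inv, Equiv.Perm.inv_eq_iff_eq, hx.1],
        by rw [map_inv, Equiv.Perm.inv_eq_iff_eq, hx.2]⟩ }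
  have hSidx : S.index = p * (p - 1) := by
    let O := {x : ι × ι // x.1 ≠ x.2}
    let F : H ⧸ S → O := Quotient.lift
      (fun h => (⟨(φ h i, φ h j), fun e => hij ((φ h).injective e)⟩ : O)) fun x y hxy => by
        have hxy' : x⁻¹ * y ∈ S := QuotientGroup.leftRel_apply.1 hxy
        obtain ⟨e1, e2⟩ := hxy'
        rw [map_mul, Equiv.Perm.mul_apply, map_inv, Equiv.Perm.inv_eq_iff_eq] at e1 e2
        exact Subtype.ext (Prod.ext e1.symm e2.symm)
    have hF : Function.Bijective F := by
      constructor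
      · intro x y e
        induction x using QuotientGroup.induction_on with | _ x =>
        induction y using QuotientGroup.induction_on with | _ y =>
        have e' := congrArg Subtype.val e
        simp only [F, Quotient.lift_mk, Prod.mk.injEq] at e'
        refine QuotientGroup.eq.2 ⟨?_, ?_⟩ <;>
          rw [map_mul, Equiv.Perm.mul_apply, map_inv, Equiv.Perm.inv_eq_iff_eq]
        · exact e'.1.symm
        · exact e'.2.symm
      · rintro ⟨⟨x, y⟩, hxy⟩
        rw [MulAction.is_two_pretransitive_iff] at h2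
        obtain ⟨⟨_, h, rfl⟩, h1, h1'⟩ := h2 hij hxy
        exact ⟨(h : H ⧸ S), Subtype.ext (Prod.ext h1 h1')⟩
    rw [Subgroup.index_eq_card, Nat.card_eq_of_bijective F hF, Nat.card_eq_fintype_card,
      Fintype.card_subtype]
    rw [show (Finset.univ.filter fun x : ι × ι => x.1 ≠ x.2) = (Finset.univ : Finset ι).offDiag by
      ext; simp [Finset.mem_offDiag], Finset.offDiag_card, Finset.card_univ, hcard]
    rw [Nat.mul_sub, mul_one]
  have hSK : S ≤ K := fun h hh => Or.inl hh
  have hrel : S.relIndex K ≤ 2 := by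
    by_cases hex : ∃ s : H, φ s i = j ∧ φ s j = i
    · obtain ⟨s, hs⟩ := hex
      refine Nat.le_of_dvd (by norm_num) (Subgroup.relIndex_dvd_two_iff.2 ⟨s, Or.inr hs, fun b hb => ?_⟩)
      rcases hb with hb | hb
      · exact Or.inr hb
      · exact Or.inl ⟨by rw [map_mul, Equiv.Perm.mul_apply, hs.1, hb.2],
          by rw [map_mul, Equiv.Perm.mul_apply, hs.2, hb.1]⟩
    · have : K ≤ S := fun h hh => hh.resolve_right fun e => hex ⟨h, e⟩
      rw [Subgroup.relIndex_eq_one.2 this]; norm_num
  have hmul := Subgroup.relIndex_mul_index hSK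
  rw [hSidx, hk] at hmul
  have hpne : S.relIndex K ≠ 0 := fun e => by
    rw [e, zero_mul] at hmul
    have : 0 < p * (p - 1) := Nat.mul_pos hp.pos (by omega)
    omega
  obtain ⟨l, hl⟩ : p - 1 ∣ S.relIndex K * p ^ k := hmul ▸ dvd_mul_left _ _
  have hcop : (p - 1).Coprime (p ^ k) := by
    refine Nat.Coprime.pow_right _ ?_
    exact ((hp.coprime_iff_not_dvd).2 fun h => by
      have := Nat.le_of_dvd (by omega) h; omega).symm
  have := Nat.le_of_dvd (Nat.pos_of_ne_zero hpne) (hcop.dvd_of_dvd_mul_right ⟨l, hl⟩)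
  omega

end CfsgLib.PPowOrbit
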