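import Cfsg.Agent.PPowOrbit.ClassSizesMain
import Cfsg.Agent.FGSB.PRegClass

/-!
Groups with the class sizes of a nilpotent group.
-/

set_option autoImplicit false
set_option linter.unusedSectionVars false

namespace CfsgLib.ClassMultiset

open Subgroup

variable {G : Type*} [Group G] [Finite G] {H : Type*} [Group H] [Finite H]

/-- The class size of an element. -/
noncomputable def size (x : G) : ℕ := (centralizer ({x} : Set G)).index

theorem size_eq (x : G) : size x = Nat.card (ConjClasses.mk x).carrier := by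
  rw [Nat.card_coe_set_eq]; exact (CfsgLib.PRegClass.ncard_carrier x).symm

/-- Elements sorted by classes. -/
def sigmaEquiv (K : Type*) [Group K] [Finite K] (P : ℕ → Prop) : {x : K // P (size x)} ≃
    Σ C : {C : ConjClasses K // P (Nat.card C.carrier)}, C.1.carrier :=
  { toFun := fun x => ⟨⟨ConjClasses.mk x.1, size_eq x.1 ▸ x.2⟩, x.1, ConjClasses.mem_carrier_mk⟩
    invFun := fun x => ⟨x.2.1, by
      rw [size_eq, ConjClasses.mem_carrier_iff_mk_eq.1 x.2.2]; exact x.1.2⟩
    left_inv := fun x => rfl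
    right_inv := by
      rintro ⟨⟨C, hC⟩, x, hx⟩
      obtain rfl := ConjClasses.mem_carrier_iff_mk_eq.1 hx
      rfl }

/-- Equal counts of classes give equal counts of elements. -/
theorem card_size_eq
    (h : ∀ k : ℕ, Nat.card {C : ConjClasses G // Nat.card C.carrier = k} =
      Nat.card {C : ConjClasses H // Nat.card C.carrier = k}) (P : ℕ → Prop) :
    Nat.card {x : G // P (size x)} = Nat.card {y : H // P (size y)} := by
  classical
  let fG : ConjClasses G → ℕ := fun C => Nat.card C.carrier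
  let fH : ConjClasses H → ℕ := fun C => Nat.card C.carrier
  let e : ConjClasses G ≃ ConjClasses H :=
    Equiv.ofFiberEquiv (f := fG) (g := fH) fun k => (Finite.card_eq.1 (h k)).some
  have he : ∀ C, fH (e C) = fG C := fun C => Equiv.ofFiberEquiv_map _ C
  rw [Nat.card_congr (sigmaEquiv G P), Nat.card_congr (sigmaEquiv H P)]
  refine Nat.card_congr ((Equiv.sigmaCongr (e.subtypeEquiv fun C => by
    show P (fG C) ↔ P (fH (e C)); rw [he]) fun C => (Finite.card_eq.1 (he C.1).symm).some))

theorem card_eq (h : ∀ k : ℕ, Nat.card {C : ConjClasses G // Nat.card C.carrier = k} =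
      Nat.card {C : ConjClasses H // Nat.card C.carrier = k}) : Nat.card G = Nat.card H := by
  have := card_size_eq h fun _ => True
  simpa [Nat.card_congr (Equiv.subtypeUnivEquiv (fun _ : G => trivial)),
    Nat.card_congr (Equiv.subtypeUnivEquiv (fun _ : H => trivial))] using this

theorem size_eq_one (x : G) : size x = 1 ↔ x ∈ center G := by
  rw [size, Subgroup.index_eq_one, eq_top_iff, Subgroup.mem_center_iff]
  exact ⟨fun hh g => Subgroup.mem_centralizer_singleton_iff.1 (hh (mem_top g)),
    fun hh g _ => Subgroup.mem_centralizer_singleton_iff.2 (hh g)⟩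

theorem card_center_eq (h : ∀ k : ℕ, Nat.card {C : ConjClasses G // Nat.card C.carrier = k} =
      Nat.card {C : ConjClasses H // Nat.card C.carrier = k}) :
    Nat.card (center G) = Nat.card (center H) := by
  have := card_size_eq h fun k => k = 1
  rwa [Nat.card_congr (Equiv.subtypeEquivRight (size_eq_one (G := G))), Nat.card_congr (Equiv.subtypeEquivRight (size_eq_one (G := H)))]
    at this

theorem commute_sylow [Group.IsNilpotent G] {p r : ℕ} [Fact p.Prime] [Fact r.Prime] (hpr : p ≠ r)
    (P : Sylow p G) (R : Sylow r G) {u v : G} (hu : u ∈ (P : Subgroup G)) (hv : v ∈ (R : Subgroup G)) :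
    Commute u v :=
  Subgroup.commute_of_normal_of_disjoint _ _ inferInstance inferInstance
    (IsPGroup.disjoint_of_ne p r hpr _ _ P.2 R.2) u v hu hv

theorem card_sylow_inf_center {p : ℕ} [Fact p.Prime] (P : Sylow p G) :
    Nat.card ↥((P : Subgroup G) ⊓ center G) = p ^ (Nat.card (center G)).factorization p := by
  obtain ⟨S⟩ : Nonempty (Sylow p (center G)) := inferInstance
  have hSn : ((S : Subgroup (center G)).map (center G).subtype).Normal := ⟨by
    rintro _ ⟨z, hz, rfl⟩ g
    refine ⟨z, hz, ?_⟩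
    show (z : G) = g * z * g⁻¹
    rw [Subgroup.mem_center_iff.1 z.2 g, mul_inv_cancel_right]⟩
  have hle : (S : Subgroup (center G)).map (center G).subtype ≤ (P : Subgroup G) ⊓ center G :=
    le_inf ((S.2.map _).le_sylow_of_normal P) (Subgroup.map_subtype_le _)
  have h1 := Subgroup.card_dvd_of_le hle
  rw [Subgroup.card_map_of_injective (center G).subtype_injective, S.card_eq_multiplicity] at h1
  refine Nat.dvd_antisymm ?_ h1
  obtain ⟨k, hk⟩ := (P.2.to_le (inf_le_left : (P : Subgroup G) ⊓ center G ≤ P)).exists_card_eq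
  have h2 : p ^ k ∣ Nat.card (center G) := hk ▸ Subgroup.card_dvd_of_le inf_le_right
  rw [hk]
  exact Nat.pow_dvd_pow p (((Fact.out : p.Prime).pow_dvd_iff_le_factorization Nat.card_pos.ne').1 h2)

theorem card_sylow_sup_center {p : ℕ} [Fact p.Prime] (P : Sylow p G) :
    Nat.card ↥((P : Subgroup G) ⊔ center G) * p ^ (Nat.card (center G)).factorization p =
      p ^ (Nat.card G).factorization p * Nat.card (center G) := by
  rw [← card_sylow_inf_center P, CfsgLib.Solvable.card_sup_mul_card_inf
    Subgroup.le_normalizer_of_normal, P.card_eq_multiplicity]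

theorem exists_sylow_le_centralizer {p : ℕ} [Fact p.Prime] {x : G} (hx : ¬ p ∣ size x) :
    ∃ P : Sylow p G, ∀ u ∈ (P : Subgroup G), Commute u x := by
  set C := centralizer ({x} : Set G)
  obtain ⟨R⟩ : Nonempty (Sylow p C) := inferInstance
  have hcard : Nat.card ((R : Subgroup C).map C.subtype) = p ^ (Nat.card G).factorization p := by
    rw [Subgroup.card_map_of_injective C.subtype_injective, R.card_eq_multiplicity,
      ← Subgroup.card_mul_index C, Nat.factorization_mul Nat.card_pos.ne' Subgroup.FiniteIndex.index_ne_zero,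
      Finsupp.add_apply, Nat.factorization_eq_zero_of_not_dvd (show ¬ p ∣ C.index from hx), add_zero]
  refine ⟨Sylow.ofCard _ hcard, fun u hu => ?_⟩
  obtain ⟨w, -, rfl⟩ : ∃ w, w ∈ (R : Subgroup C) ∧ (w : G) = u := hu
  exact Subgroup.mem_centralizer_singleton_iff.1 w.2

theorem not_dvd_size_of_sylow {p : ℕ} [Fact p.Prime] (P : Sylow p G) {x : G}
    (h : ∀ u ∈ (P : Subgroup G), Commute u x) : ¬ p ∣ size x := fun hd =>
  P.not_dvd_index (hd.trans (Subgroup.index_dvd_of_le fun u hu =>
    Subgroup.mem_centralizer_singleton_iff.2 (h u hu).eq))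

/-- The count in a nilpotent group of the elements with class size prime to `q`. -/
theorem not_dvd_card_nilpotent [Group.IsNilpotent H] {q : ℕ} [Fact q.Prime] :
    ¬ q ^ ((Nat.card (center H)).factorization q + 1) ∣ Nat.card {y : H // ¬ q ∣ size y} := by
  obtain ⟨Q⟩ : Nonempty (Sylow q H) := inferInstance
  set C := centralizer ((Q : Subgroup H) : Set H)
  have hW : ∀ y : H, ¬ q ∣ size y ↔ y ∈ C := by
    intro y
    refine ⟨fun hy => ?_, fun hy => not_dvd_size_of_sylow Q fun u hu =>
      Subgroup.mem_centralizer_iff.1 hy u hu⟩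
    obtain ⟨R, hR⟩ := exists_sylow_le_centralizer hy
    haveI : Subsingleton (Sylow q H) := Sylow.unique_of_normal Q inferInstance |>.instSubsingleton
    rw [Subgroup.mem_centralizer_iff]
    exact fun u hu => hR u (Subsingleton.elim Q R ▸ hu)
  rw [Nat.card_congr (Equiv.subtypeEquivRight hW)]
  intro hd
  have hle : (Q : Subgroup H) ⊓ C ≤ center H := by
    rintro z ⟨hzQ, hzC⟩
    have hall : ∀ (r : ℕ) [Fact r.Prime] (R : Sylow r H), (R : Subgroup H) ≤ centralizer ({z} : Set H) := by
      intro r _ R w hw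
      rw [Subgroup.mem_centralizer_singleton_iff]
      by_cases hrq : r = q
      · subst hrq
        haveI : Subsingleton (Sylow r H) := Sylow.unique_of_normal Q inferInstance |>.instSubsingleton
        exact Subgroup.mem_centralizer_iff.1 hzC w (Subsingleton.elim R Q ▸ hw)
      · exact (commute_sylow hrq R Q hw hzQ).eq
    refine (size_eq_one z).1 (Nat.eq_one_iff_not_exists_prime_dvd.2 fun r hr hd => ?_)
    haveI := Fact.mk hr
    obtain ⟨R⟩ : Nonempty (Sylow r H) := inferInstance
    exact R.not_dvd_index (hd.trans (Subgroup.index_dvd_of_le (hall r R)))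
  have hrel : ((Q : Subgroup H) ⊓ C).relIndex C ∣ (Q : Subgroup H).index := by
    rw [Subgroup.inf_relIndex_right]
    exact CfsgLib.PRegClass.relIndex_dvd_index _ _
  have hco : (q ^ ((Nat.card (center H)).factorization q + 1)).Coprime
      (((Q : Subgroup H) ⊓ C).relIndex C) :=
    Nat.Coprime.coprime_dvd_right hrel (CfsgLib.ClassSizes.coprime_index_sylow Q _)
  have hmul : Nat.card ↥((Q : Subgroup H) ⊓ C) * ((Q : Subgroup H) ⊓ C).relIndex C = Nat.card C := by
    rw [← Subgroup.relIndex_bot_left, ← Subgroup.relIndex_bot_left]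
    exact Subgroup.relIndex_mul_relIndex ⊥ _ C bot_le inf_le_right
  rw [← hmul] at hd
  exact Nat.pow_succ_factorization_not_dvd Nat.card_pos.ne' (Fact.out : q.Prime)
    ((hco.dvd_of_dvd_mul_right hd).trans (Subgroup.card_dvd_of_le hle))

/-- The central part of a Sylow subgroup is central. -/
theorem sylow_inf_centralizer_le {q : ℕ} [Fact q.Prime] (Q : Sylow q G)
    (hcount : ¬ q ^ ((Nat.card (center G)).factorization q + 1) ∣ Nat.card {y : G // ¬ q ∣ size y}) :
    (Q : Subgroup G) ⊓ centralizer ((Q : Subgroup G) : Set G) ≤ center G := by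
  set Qs := (Q : Subgroup G)
  set C := centralizer (Qs : Set G)
  set Zq := Qs ⊓ center G with hZq
  haveI : Zq.Normal := ⟨fun z hz g => by
    rwa [Subgroup.mem_center_iff.1 hz.2 g, mul_inv_cancel_right]⟩
  have hcard : Nat.card Zq = q ^ (Nat.card (center G)).factorization q := card_sylow_inf_center Q
  have hZC : Zq ≤ C := fun z hz => Subgroup.mem_centralizer_iff.2 fun u _ =>
    Subgroup.mem_center_iff.1 hz.2 u
  by_contra hcon
  obtain ⟨z, hz, hzc⟩ := SetLike.not_le_iff_exists.1 hcon
  have hlt : Zq < Qs ⊓ C := lt_of_le_of_ne (le_inf inf_le_left hZC) fun e => hzc (e ▸ hz : z ∈ Zq).2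
  obtain ⟨k, hk⟩ := (Q.2.to_le (inf_le_left : Qs ⊓ C ≤ Qs)).exists_card_eq
  have hdvdC : q ^ ((Nat.card (center G)).factorization q + 1) ∣ Nat.card C := by
    refine (Nat.pow_dvd_pow q ?_).trans (hk ▸ Subgroup.card_dvd_of_le (inf_le_right : Qs ⊓ C ≤ C))
    refine (Nat.pow_lt_pow_iff_right (Fact.out : q.Prime).one_lt).1 ?_
    rw [← hcard, ← hk]
    by_contra hle
    exact hlt.ne (Subgroup.eq_of_le_of_card_ge hlt.le (not_lt.1 hle))
  let π := QuotientGroup.mk' Zq
  let W : Set G := {y | ¬ q ∣ size y}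
  let S : Set (G ⧸ Zq) := π '' W
  -- commuting modulo the central part
  have hlift : ∀ x ∈ W, ∀ u : G, π (u * x * u⁻¹) = π x → Commute u x := by
    intro x hx u hu
    let M : Subgroup G := (centralizer ({π x} : Set (G ⧸ Zq))).comap π
    have hM : ∀ g, g ∈ M ↔ g * x * g⁻¹ * x⁻¹ ∈ Zq := by
      intro g
      rw [Subgroup.mem_comap, Subgroup.mem_centralizer_singleton_iff,
        ← QuotientGroup.eq_one_iff (N := Zq)]
      show _ ↔ π (g * x * g⁻¹ * x⁻¹) = 1
      simp only [map_mul, map_inv, mul_inv_eq_one, mul_inv_eq_iff_eq_mul, one_mul]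
    let φ : M →* Zq :=
      { toFun := fun g => ⟨(g : G) * x * (g : G)⁻¹ * x⁻¹, (hM _).1 g.2⟩
        map_one' := Subtype.ext (show (1 : G) * x * 1⁻¹ * x⁻¹ = 1 by simp)
        map_mul' := fun g g' => Subtype.ext (by
          show (g : G) * g' * x * ((g : G) * g')⁻¹ * x⁻¹ =
            (g : G) * x * (g : G)⁻¹ * x⁻¹ * ((g' : G) * x * (g' : G)⁻¹ * x⁻¹)
          have hc := Subgroup.mem_center_iff.1 ((hM _).1 g'.2).2
          rw [hc, show (g : G) * g' * x * ((g : G) * g')⁻¹ * x⁻¹ =
            ((g : G) * ((g' : G) * x * (g' : G)⁻¹ * x⁻¹)) * (x * (g : G)⁻¹ * x⁻¹) by group, hc]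
          group) }
    have hker : φ.ker = (centralizer ({x} : Set G)).subgroupOf M := by
      ext g
      rw [MonoidHom.mem_ker, Subgroup.mem_subgroupOf, Subgroup.mem_centralizer_singleton_iff,
        Subtype.ext_iff]
      show (g : G) * x * (g : G)⁻¹ * x⁻¹ = 1 ↔ _
      rw [mul_inv_eq_one, mul_inv_eq_iff_eq_mul]
    have h1 : φ.ker.index ∣ q ^ (Nat.card (center G)).factorization q := by
      rw [Subgroup.index_ker, ← hcard]
      exact Subgroup.card_subgroup_dvd_card φ.range
    have hCM : centralizer ({x} : Set G) ≤ M := fun g hg => by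
      rw [hM, Subgroup.mem_centralizer_singleton_iff.1 hg, mul_inv_cancel_right, mul_inv_cancel]
      exact one_mem _
    have h2 : φ.ker.index ∣ size x := by
      rw [hker]; exact Dvd.intro _ (Subgroup.relIndex_mul_index hCM)
    have h3 := Nat.eq_one_of_dvd_coprimes
      ((((Fact.out : q.Prime).coprime_iff_not_dvd).2 hx).pow_left _) h1 h2
    rw [hker] at h3
    have huM : u ∈ M := by
      rw [hM, ← QuotientGroup.eq_one_iff]
      show π (u * x * u⁻¹ * x⁻¹) = 1
      rw [map_mul, hu, map_inv, mul_inv_cancel]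
    exact Subgroup.mem_centralizer_singleton_iff.1
      (Subgroup.relIndex_eq_one.1 h3 huM : u ∈ centralizer ({x} : Set G))
  -- the invariance of the counted set
  have hWconj : ∀ x ∈ W, ∀ u : G, u * x * u⁻¹ ∈ W := fun x hx u => by
    show ¬ q ∣ size (u * x * u⁻¹)
    rwa [size, CfsgLib.ClassSizes.index_centralizer_conj]
  letI : MulAction Qs S :=
    { smul := fun u s => ⟨π u * s.1 * (π u)⁻¹, by
        obtain ⟨x, hx, e⟩ := s.2
        exact ⟨u * x * (u : G)⁻¹, hWconj x hx u, by rw [map_mul, map_mul, map_inv, e]⟩⟩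
      one_smul := fun s => Subtype.ext (show π (1 : G) * s.1 * (π (1 : G))⁻¹ = s.1 by simp)
      mul_smul := fun a b s => Subtype.ext (show π ((a : G) * b) * s.1 * (π ((a : G) * b))⁻¹ =
        π a * (π b * s.1 * (π b)⁻¹) * (π a)⁻¹ by rw [map_mul]; group) }
  have hfix : Nat.card (MulAction.fixedPoints Qs S) = Nat.card (C.map π) := by
    refine Nat.card_congr
      { toFun := fun s => ⟨s.1.1, ?_⟩
        invFun := fun c => ⟨⟨c.1, ?_⟩, ?_⟩
        left_inv := fun s => rfl
        right_inv := fun c => rfl }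
    · obtain ⟨x, hx, e⟩ := s.1.2
      refine ⟨x, Subgroup.mem_centralizer_iff.2 fun u hu => hlift x hx u ?_, e⟩
      have h1 : π u * s.1.1 * (π u)⁻¹ = s.1.1 := congrArg Subtype.val (s.2 ⟨u, hu⟩)
      rw [map_mul, map_mul, map_inv, e]
      exact h1
    · obtain ⟨x, hx, e⟩ := c.2
      exact ⟨x, not_dvd_size_of_sylow Q fun u hu => Subgroup.mem_centralizer_iff.1 hx u hu, e⟩
    · intro u
      obtain ⟨x, hx, e⟩ := c.2
      apply Subtype.ext
      show π (u : G) * c.1 * (π (u : G))⁻¹ = c.1
      rw [← e, mul_inv_eq_iff_eq_mul, ← map_mul, ← map_mul, Subgroup.mem_centralizer_iff.1 hx u u.2]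
  have hmod := Q.2.card_modEq_card_fixedPoints S
  have hpre : π ⁻¹' S = W := by
    refine Set.Subset.antisymm (fun w hw => ?_) (Set.subset_preimage_image _ _)
    obtain ⟨x, hx, e⟩ := hw
    have hc : x⁻¹ * w ∈ center G := (QuotientGroup.eq.1 e).2
    show ¬ q ∣ size w
    rwa [← mul_inv_cancel_left x w, size, show centralizer ({x * (x⁻¹ * w)} : Set G) = centralizer {x} from ?_]
    ext g
    rw [Subgroup.mem_centralizer_singleton_iff, Subgroup.mem_centralizer_singleton_iff,
      mul_assoc x (x⁻¹ * w) g, ← Subgroup.mem_center_iff.1 hc g, ← mul_assoc g, ← mul_assoc x]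
    exact mul_left_inj _
  have hcardW : Nat.card W = Nat.card Zq * Nat.card S := by
    rw [← hpre, ← Nat.card_prod]
    exact Nat.card_congr (QuotientGroup.preimageMkEquivSubgroupProdSet Zq S)
  have hcardC : Nat.card C = Nat.card Zq * Nat.card (C.map π) := by
    rw [← Subgroup.relIndex_bot_left (C.map π), ← Subgroup.relIndex_comap]
    show Nat.card C = Nat.card Zq * π.ker.relIndex C
    rw [QuotientGroup.ker_mk', ← Subgroup.relIndex_bot_left, ← Subgroup.relIndex_bot_left]
    exact (Subgroup.relIndex_mul_relIndex ⊥ Zq C bot_le hZC).symm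
  refine hcount ?_
  show _ ∣ Nat.card W
  rw [pow_succ, hcard] at *
  rw [hcardW]
  rw [hcardC] at hdvdC
  refine Nat.mul_dvd_mul_left _ ?_
  rw [hmod.dvd_iff dvd_rfl, hfix]
  exact Nat.dvd_of_mul_dvd_mul_left (pow_pos (Fact.out : q.Prime).pos _) hdvdC

/-- Elements with `p`-power class size in the group being recognised. -/
theorem mem_sup_of_size {p : ℕ} [Fact p.Prime]
    (hZ : ∀ (r : ℕ) [Fact r.Prime] (R : Sylow r G),
      (R : Subgroup G) ⊓ centralizer ((R : Subgroup G) : Set G) ≤ center G)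
    {x : G} {a : ℕ} (hx : size x = p ^ a) : x ∈ Cfsg.pCore p G ⊔ center G := by
  set Z := center G
  let π := QuotientGroup.mk' Z
  have hpow : ∀ r : ℕ, r.Prime → r ∣ orderOf (π x) → r = p := by
    intro r hr hd
    by_contra hrp
    haveI := Fact.mk hr
    obtain ⟨R, hR⟩ := exists_sylow_le_centralizer (p := r) (x := x) fun h =>
      hrp ((Nat.prime_dvd_prime_iff_eq hr Fact.out).1 (hr.dvd_of_dvd_pow (hx ▸ h)))
    obtain ⟨i, m, hm, hn⟩ := Nat.exists_eq_pow_mul_and_not_dvd (orderOf_pos x).ne' r hr.ne_one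
    have hw : IsPGroup r (zpowers (x ^ m)) := IsPGroup.of_card (n := i) (by
      rw [Nat.card_zpowers, orderOf_pow_of_dvd (fun h0 => hm (by rw [h0]; exact dvd_zero r)) (hn ▸ dvd_mul_left m _), hn,
        Nat.mul_div_cancel _ (Nat.pos_of_ne_zero fun h0 => hm (by rw [h0]; exact dvd_zero r))])
    have hwR : x ^ m ∈ (R : Subgroup G) := by
      have hle : zpowers (x ^ m) ≤ normalizer ((R : Subgroup G) : Set G) := by
        refine (Subgroup.zpowers_le.2 ?_).trans (Subgroup.centralizer_le_normalizer _)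
        exact Subgroup.mem_centralizer_iff.2 fun u hu => ((hR u hu).pow_right m).eq
      have := R.3 (hw.to_sup_of_normal_right' R.2 hle) le_sup_right
      exact this ▸ (le_sup_left : zpowers (x ^ m) ≤ _) (mem_zpowers _)
    have hwZ : x ^ m ∈ Z := hZ r R ⟨hwR, Subgroup.mem_centralizer_iff.2 fun u hu => ((hR u hu).pow_right m).eq⟩
    exact hm (hd.trans (orderOf_dvd_of_pow_eq_one (by
      rw [← map_pow]; exact (QuotientGroup.eq_one_iff _).2 hwZ)))
  obtain ⟨i, m, hm, hn⟩ := Nat.exists_eq_pow_mul_and_not_dvd (orderOf_pos x).ne' p (Fact.out : p.Prime).ne_one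
  have hpi : orderOf (π x) ∣ p ^ i := by
    have h0 := Nat.eq_prime_pow_of_unique_prime_dvd (orderOf_pos (π x)).ne' fun hd hr => hpow _ hd hr
    have h1 : orderOf (π x) ∣ p ^ i * m := hn ▸ orderOf_map_dvd π x
    rw [h0] at h1 ⊢
    exact Nat.Coprime.dvd_of_dvd_mul_right (Nat.Coprime.pow_left _
      (((Fact.out : p.Prime).coprime_iff_not_dvd).2 hm)) h1
  have hb : (Nat.gcdA m (p ^ i)) * (m : ℤ) + (Nat.gcdB m (p ^ i)) * ((p ^ i : ℕ) : ℤ) = 1 := by
    have := Nat.gcd_eq_gcd_ab m (p ^ i)
    rw [(((Fact.out : p.Prime).coprime_iff_not_dvd).2 hm).symm.pow_right i] at this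
    push_cast at this ⊢
    linarith
  set u := (x ^ m) ^ Nat.gcdA m (p ^ i)
  set v := (x ^ p ^ i) ^ Nat.gcdB m (p ^ i)
  have huv : u * v = x := by
    simp only [u, v, ← zpow_natCast x, ← zpow_mul, ← zpow_add]
    rw [mul_comm (m : ℤ), mul_comm ((p ^ i : ℕ) : ℤ), hb, zpow_one]
  have hv : v ∈ Z := Subgroup.zpow_mem _ ((QuotientGroup.eq_one_iff _).1
    (show π (x ^ p ^ i) = 1 by rw [map_pow]; exact orderOf_dvd_iff_pow_eq_one.1 hpi)) _
  have hcu : centralizer ({u} : Set G) = centralizer {x} := by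
    ext g
    rw [Subgroup.mem_centralizer_singleton_iff, Subgroup.mem_centralizer_singleton_iff, ← huv,
      ← mul_assoc g, mul_assoc u v g, ← Subgroup.mem_center_iff.1 hv g, ← mul_assoc]
    exact (mul_left_inj v).symm
  have huQ : CfsgLib.ClassSizes.IsQ p u := by
    have hu1 : u ^ p ^ i = 1 := by
      simp only [u]
      rw [← zpow_natCast _ (p ^ i), zpow_comm, zpow_natCast, ← pow_mul, mul_comm, ← hn, pow_orderOf_eq_one,
        one_zpow]
    obtain ⟨j, -, hj⟩ := (Nat.dvd_prime_pow Fact.out).1 (orderOf_dvd_of_pow_eq_one hu1)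
    exact ⟨j, hj⟩
  rw [← huv]
  exact mul_mem (Subgroup.mem_sup_left (CfsgLib.ClassSizes.mem_pCore_of_index huQ (a := a)
    (by rw [hcu]; exact hx))) (Subgroup.mem_sup_right hv)

/-- The count in a nilpotent group of the elements with `p`-power class size. -/
theorem sylow_sup_center_le [Group.IsNilpotent H] {p : ℕ} [Fact p.Prime] (P : Sylow p H) :
    Nat.card ↥((P : Subgroup H) ⊔ center H) ≤ Nat.card {y : H // ∃ a, size y = p ^ a} := by
  refine Nat.card_le_card_of_injective (fun y => ⟨y.1, ?_⟩) fun a b e => Subtype.ext (congrArg (fun t => t.1) e :)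
  obtain ⟨u, hu, z, hz, e⟩ := Subgroup.mem_sup_of_normal_right.1 y.2
  refine ⟨_, Nat.eq_prime_pow_of_unique_prime_dvd Subgroup.FiniteIndex.index_ne_zero fun {r} hr hd => ?_⟩
  by_contra hrp
  haveI := Fact.mk hr
  obtain ⟨R⟩ : Nonempty (Sylow r H) := inferInstance
  refine not_dvd_size_of_sylow R (x := y.1) (fun w hw => ?_) hd
  rw [← e]
  exact ((commute_sylow (Ne.symm hrp) P R hu hw).symm).mul_right (Subgroup.mem_center_iff.1 hz w)

theorem isNilpotent (hH : Group.IsNilpotent H)
    (h : ∀ k : ℕ, Nat.card {C : ConjClasses G // Nat.card C.carrier = k} =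
      Nat.card {C : ConjClasses H // Nat.card C.carrier = k}) : Group.IsNilpotent G := by
  haveI := hH
  have hc := card_center_eq h
  have hG := card_eq h
  have hZ : ∀ (r : ℕ) [Fact r.Prime] (R : Sylow r G),
      (R : Subgroup G) ⊓ centralizer ((R : Subgroup G) : Set G) ≤ center G := by
    intro r _ R
    refine sylow_inf_centralizer_le R ?_
    rw [hc, card_size_eq h fun k => ¬ r ∣ k]
    exact not_dvd_card_nilpotent
  refine (Group.isNilpotent_of_finite_tfae.out 0 3 rfl rfl).2 fun p hp P => ?_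
  haveI := hp
  obtain ⟨PH⟩ : Nonempty (Sylow p H) := inferInstance
  set O := Cfsg.pCore p G
  have hOP : O ≤ (P : Subgroup G) := (CfsgLib.Solvable.isPGroup_pCore p).le_sylow_of_normal P
  have h1 : Nat.card {y : G // ∃ a, size y = p ^ a} ≤ Nat.card ↥(O ⊔ center G) :=
    Nat.card_le_card_of_injective (fun y => ⟨y.1, mem_sup_of_size hZ y.2.choose_spec⟩)
      fun a b e => Subtype.ext (congrArg (fun t => t.1) e :)
  rw [card_size_eq h fun k => ∃ a, k = p ^ a] at h1
  have h2 := (sylow_sup_center_le PH).trans h1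
  have h3 : Nat.card ↥((P : Subgroup G) ⊔ center G) = Nat.card ↥((PH : Subgroup H) ⊔ center H) := by
    refine Nat.eq_of_mul_eq_mul_right (pow_pos (Fact.out : p.Prime).pos
      ((Nat.card (center G)).factorization p)) ?_
    rw [card_sylow_sup_center P, hc, card_sylow_sup_center PH, hG]
  have heq : O ⊔ center G = (P : Subgroup G) ⊔ center G :=
    Subgroup.eq_of_le_of_card_ge (sup_le_sup_right hOP _) (h3 ▸ h2)
  have hPO : (P : Subgroup G) ≤ O := by
    intro u hu
    have hu' : u ∈ O ⊔ center G := heq ▸ Subgroup.mem_sup_left hu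
    obtain ⟨o, ho, z, hz, rfl⟩ := Subgroup.mem_sup_of_normal_right.1 hu'
    have hzP : z ∈ (P : Subgroup G) := by simpa using mul_mem (inv_mem (hOP ho)) hu
    have hzO : z ∈ O := CfsgLib.Solvable.le_pCore p
      (show (zpowers z).Normal from ⟨fun w hw g => by
        rwa [Subgroup.mem_center_iff.1 (Subgroup.zpowers_le.2 hz hw) g, mul_inv_cancel_right]⟩)
      (P.2.to_le (Subgroup.zpowers_le.2 hzP)) (mem_zpowers z)
    exact mul_mem ho hzO
  rw [show (P : Subgroup G) = O from le_antisymm hPO hOP]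
  infer_instance

end CfsgLib.ClassMultiset
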