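import Cfsg.Agent.PPowOrbit.Main
import Cfsg.Agent.S4364
import Cfsg.Agent.Solvable.Basics
import Cfsg.Agent.Solvable.CoprimeIndex
import Cfsg.Agent.Solvable.CoprimeAbelian

/-!
Groups in which the elements of `q`-power order have classes of prime power size.
-/

set_option autoImplicit false
set_option linter.unusedSectionVars false

namespace CfsgLib.ClassSizes

open Subgroup

variable {G : Type*} [Group G] [Finite G] {q : ℕ} [Fact q.Prime]

/-- An element of `q`-power order. -/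
def IsQ (q : ℕ) (x : G) : Prop := ∃ k : ℕ, orderOf x = q ^ k

/-- The hypothesis. -/
def Hyp (q : ℕ) (G : Type*) [Group G] : Prop :=
  ∀ x : G, IsQ q x → ∃ (r : ℕ) (a : ℕ), r.Prime ∧ (centralizer ({x} : Set G)).index = r ^ a

theorem isQ_of_mem {P : Sylow q G} {x : G} (hx : x ∈ (P : Subgroup G)) : IsQ q x := by
  obtain ⟨k, hk⟩ := (IsPGroup.iff_orderOf.1 P.2) ⟨x, hx⟩
  exact ⟨k, by rw [← hk, Subgroup.orderOf_mk]⟩

theorem IsQ.isPGroup {x : G} (hx : IsQ q x) : IsPGroup q (zpowers x) := by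
  obtain ⟨k, hk⟩ := hx
  exact IsPGroup.of_card (n := k) (by rw [Nat.card_zpowers, hk])

theorem coprime_index_sylow (P : Sylow q G) (a : ℕ) : (q ^ a).Coprime (P : Subgroup G).index :=
  Nat.Coprime.pow_left _ (((Fact.out : q.Prime).coprime_iff_not_dvd).2 P.not_dvd_index)

theorem index_centralizer_conj (g x : G) :
    (centralizer ({g * x * g⁻¹} : Set G)).index = (centralizer ({x} : Set G)).index := by
  have h : centralizer ({g * x * g⁻¹} : Set G) =
      (centralizer ({x} : Set G)).map (MulAut.conj g).toMonoidHom := by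
    ext y
    rw [Subgroup.mem_centralizer_singleton_iff, Subgroup.mem_map]
    constructor
    · intro hy
      refine ⟨g⁻¹ * y * g, Subgroup.mem_centralizer_singleton_iff.2 ?_, by simp [mul_assoc]⟩
      calc g⁻¹ * y * g * x = g⁻¹ * (y * (g * x * g⁻¹)) * g := by group
        _ = g⁻¹ * (g * x * g⁻¹ * y) * g := by rw [hy]
        _ = x * (g⁻¹ * y * g) := by group
    · rintro ⟨z, hz, rfl⟩
      rw [Subgroup.mem_centralizer_singleton_iff] at hz
      show g * z * g⁻¹ * (g * x * g⁻¹) = g * x * g⁻¹ * (g * z * g⁻¹)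
      calc g * z * g⁻¹ * (g * x * g⁻¹) = g * (z * x) * g⁻¹ := by group
        _ = g * (x * z) * g⁻¹ := by rw [hz]
        _ = _ := by group
  rw [h]
  exact Subgroup.index_map_of_bijective (MulAut.conj g).bijective _

/-- Case one: `q`-power class size. -/
theorem mem_pCore_of_index {x : G} (hx : IsQ q x) {a : ℕ}
    (ha : (centralizer ({x} : Set G)).index = q ^ a) : x ∈ Cfsg.pCore q G := by
  obtain ⟨P, hP⟩ := hx.isPGroup.exists_le_sylow
  have hle : normalClosure ({x} : Set G) ≤ (P : Subgroup G) := by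
    refine (Subgroup.closure_le _).2 fun y hy => ?_
    obtain ⟨z, hz, hzy⟩ := Group.mem_conjugatesOfSet_iff.1 hy
    rw [Set.mem_singleton_iff] at hz
    subst hz
    obtain ⟨g, rfl⟩ := isConj_iff.1 hzy
    obtain ⟨u, hu, c, hc, rfl⟩ := CfsgLib.CoprimeIndex.exists_mul_eq
      (H := (P : Subgroup G)) (K := centralizer ({z} : Set G))
      (ha ▸ (coprime_index_sylow P a).symm) g
    rw [Subgroup.mem_centralizer_singleton_iff] at hc
    show u * c * z * (u * c)⁻¹ ∈ (P : Subgroup G)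
    rw [show u * c * z * (u * c)⁻¹ = u * z * u⁻¹ by
      rw [mul_assoc u c z, hc]; group]
    exact mul_mem (mul_mem hu (hP (mem_zpowers z))) (inv_mem hu)
  exact CfsgLib.Solvable.le_pCore q inferInstance (P.2.to_le hle)
    (subset_normalClosure (Set.mem_singleton x))

theorem isPGroup_of_generators {H : Type*} [Group H] [Finite H] {S : Set H}
    (hc : ∀ a ∈ S, ∀ b ∈ S, a * b = b * a) (hq : ∀ a ∈ S, ∃ k : ℕ, a ^ q ^ k = 1) :
    IsPGroup q (closure S) := by
  haveI : IsMulCommutative (closure S) := Subgroup.isMulCommutative_closure hc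
  rintro ⟨g, hg⟩
  have : ∃ k : ℕ, g ^ q ^ k = 1 := by
    induction hg using Subgroup.closure_induction with
    | mem a ha => exact hq a ha
    | one => exact ⟨0, one_pow _⟩
    | mul a b ha hb iha ihb =>
      obtain ⟨i, hi⟩ := iha
      obtain ⟨j, hj⟩ := ihb
      have hab : Commute a b := congrArg Subtype.val
        (IsMulCommutative.is_comm.comm (⟨a, ha⟩ : closure S) ⟨b, hb⟩)
      refine ⟨i + j, ?_⟩
      rw [hab.mul_pow, pow_add, pow_mul, hi, one_pow, one_mul, mul_comm (q ^ i), pow_mul, hj, one_pow]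
    | inv a _ iha =>
      obtain ⟨i, hi⟩ := iha
      exact ⟨i, by rw [inv_pow, hi, inv_one]⟩
  obtain ⟨k, hk⟩ := this
  exact ⟨k, Subtype.ext (by simpa using hk)⟩

/-- Case two: modulo `O_r(G)` the element lies in the `q`-core. -/
theorem mem_comap_pCore {x : G} (hx : IsQ q x) {r : ℕ} [Fact r.Prime] {a : ℕ}
    (ha : (centralizer ({x} : Set G)).index = r ^ a) :
    QuotientGroup.mk' (Cfsg.pCore r G) x ∈ Cfsg.pCore q (G ⧸ Cfsg.pCore r G) := by
  set O := Cfsg.pCore r G
  set π := QuotientGroup.mk' O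
  obtain ⟨k, hk⟩ := hx
  set S := (fun g : G => π (g * x * g⁻¹)) '' Set.univ
  have hc : ∀ a ∈ S, ∀ b ∈ S, a * b = b * a := by
    rintro _ ⟨g, -, rfl⟩ _ ⟨h, -, rfl⟩
    have := Cfsg.Agent.S4364.result r x ⟨a, ha⟩ g h
    have h1 : π (g * x * g⁻¹ * (h * x * h⁻¹) * (g * x * g⁻¹)⁻¹ * (h * x * h⁻¹)⁻¹) = 1 :=
      (QuotientGroup.eq_one_iff _).2 this
    simp only [map_mul, map_inv] at h1 ⊢
    exact mul_inv_eq_iff_eq_mul.1 (mul_inv_eq_one.1 h1)
  have hP := isPGroup_of_generators hc (q := q) (by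
    rintro _ ⟨g, -, rfl⟩
    exact ⟨k, by rw [← map_pow, conj_pow, ← hk, pow_orderOf_eq_one, mul_one, mul_inv_cancel, map_one]⟩)
  have hN : (closure S).Normal := by
    refine ⟨fun y hy g => ?_⟩
    induction hy using Subgroup.closure_induction with
    | mem a ha =>
      obtain ⟨h, -, rfl⟩ := ha
      obtain ⟨g, rfl⟩ := QuotientGroup.mk'_surjective O g
      refine Subgroup.subset_closure ⟨g * h, Set.mem_univ _, ?_⟩
      show π (g * h * x * (g * h)⁻¹) = π g * π (h * x * h⁻¹) * (π g)⁻¹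
      rw [← map_inv π g, ← map_mul, ← map_mul]
      congr 1
      group
    | one => simp
    | mul a b _ _ iha ihb =>
      rw [show g * (a * b) * g⁻¹ = g * a * g⁻¹ * (g * b * g⁻¹) by group]
      exact mul_mem iha ihb
    | inv a _ iha =>
      rw [show g * a⁻¹ * g⁻¹ = (g * a * g⁻¹)⁻¹ by group]
      exact inv_mem iha
  exact CfsgLib.Solvable.le_pCore q hN hP (Subgroup.subset_closure ⟨1, Set.mem_univ _, by simp⟩)

/-- The preimage of the `q`-core modulo `O_{q'}`. -/
def bigL (q : ℕ) (G : Type*) [Group G] [Finite G] : Subgroup G :=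
  (Cfsg.pCore q (G ⧸ Cfsg.pPrimeCore q G)).comap (QuotientGroup.mk' (Cfsg.pPrimeCore q G))

theorem mem_bigL (hB : Hyp q G) {x : G} (hx : IsQ q x) : x ∈ bigL q G := by
  obtain ⟨r, a, hr, ha⟩ := hB x hx
  set K := Cfsg.pPrimeCore q G
  rw [bigL, Subgroup.mem_comap]
  by_cases hrq : r = q
  · subst hrq
    refine CfsgLib.Solvable.le_pCore r
      (Subgroup.Normal.map inferInstance _ (QuotientGroup.mk'_surjective K))
      ((CfsgLib.Solvable.isPGroup_pCore (G := G) r).map (QuotientGroup.mk' K))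
      ⟨x, mem_pCore_of_index hx ha, rfl⟩
  · haveI := Fact.mk hr
    set O := Cfsg.pCore r G
    set πO := QuotientGroup.mk' O
    have hOK : O ≤ K := by
      refine CfsgLib.Solvable.le_pPrimeCore q inferInstance ?_
      obtain ⟨k, hk⟩ := (CfsgLib.Solvable.isPGroup_pCore (G := G) r).exists_card_eq
      rw [hk]
      exact ((Nat.coprime_primes hr Fact.out).2 hrq).pow_left k
    let f : G ⧸ O →* G ⧸ K := QuotientGroup.map O K (MonoidHom.id G) hOK
    have hf : Function.Surjective f := fun y => by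
      obtain ⟨g, rfl⟩ := QuotientGroup.mk'_surjective K y
      exact ⟨πO g, rfl⟩
    exact CfsgLib.Solvable.le_pCore q (Subgroup.Normal.map inferInstance f hf)
      ((CfsgLib.Solvable.isPGroup_pCore (G := G ⧸ O) q).map f)
      ⟨_, mem_comap_pCore hx ha, rfl⟩

theorem sylow_le_bigL (hB : Hyp q G) (P : Sylow q G) : (P : Subgroup G) ≤ bigL q G :=
  fun _ hx => mem_bigL hB (isQ_of_mem hx)

/-- The first conclusion. -/
theorem q_length_one (hB : Hyp q G) : ∃ K L : Subgroup G, K.Normal ∧ L.Normal ∧ K ≤ L ∧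
    (Nat.card K).Coprime q ∧ (∃ m : ℕ, K.relIndex L = q ^ m) ∧ L.index.Coprime q := by
  set K := Cfsg.pPrimeCore q G
  refine ⟨K, bigL q G, inferInstance, Subgroup.Normal.comap inferInstance _, ?_,
    (CfsgLib.Solvable.coprime_card_pPrimeCore q), ?_, ?_⟩
  · intro x hx
    rw [bigL, Subgroup.mem_comap, show QuotientGroup.mk' K x = 1 from (QuotientGroup.eq_one_iff x).2 hx]
    exact one_mem _
  · obtain ⟨m, hm⟩ := (CfsgLib.Solvable.isPGroup_pCore (G := G ⧸ K) q).exists_card_eq
    refine ⟨m, ?_⟩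
    have hker : (QuotientGroup.mk' K).ker = (⊥ : Subgroup (G ⧸ K)).comap (QuotientGroup.mk' K) := rfl
    rw [bigL, ← QuotientGroup.ker_mk' K, hker, Subgroup.relIndex_comap,
      Subgroup.map_comap_eq_self_of_surjective (QuotientGroup.mk'_surjective K),
      Subgroup.relIndex_bot_left, hm]
  · obtain ⟨P⟩ : Nonempty (Sylow q G) := inferInstance
    refine ((Fact.out : q.Prime).coprime_iff_not_dvd.2 fun h => ?_).symm
    exact P.not_dvd_index (h.trans (Subgroup.index_dvd_of_le (sylow_le_bigL hB P)))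

/-- Elements with class size prime to `q` are central in their Sylow subgroups. -/
theorem commute_of_index (hB : Hyp q G) {Q : Sylow q G} {x y : G} (hx : x ∈ (Q : Subgroup G))
    (hy : y ∈ (Q : Subgroup G)) {r : ℕ} (hr : r.Prime) (hrq : r ≠ q) {a : ℕ}
    (ha : (centralizer ({x} : Set G)).index = r ^ a) : x * y = y * x := by
  set C := centralizer ({x} : Set G)
  obtain ⟨R⟩ : Nonempty (Sylow q C) := inferInstance
  have hcard : Nat.card ((R : Subgroup C).map C.subtype) = q ^ (Nat.card G).factorization q := by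
    rw [Subgroup.card_map_of_injective C.subtype_injective, R.card_eq_multiplicity,
      ← Subgroup.card_mul_index C, ha, Nat.factorization_mul Nat.card_pos.ne' (pow_ne_zero _ hr.ne_zero),
      Finsupp.add_apply, hr.factorization_pow, Finsupp.single_eq_of_ne (Ne.symm hrq), add_zero]
  let R' : Sylow q G := Sylow.ofCard _ hcard
  set K := Cfsg.pPrimeCore q G
  set π := QuotientGroup.mk' K
  have hsurj := QuotientGroup.mk'_surjective K
  have heq : ∀ S : Sylow q G, (S : Subgroup G).map π = Cfsg.pCore q (G ⧸ K) := fun S => by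
    refine ((S.mapSurjective hsurj).3 (CfsgLib.Solvable.isPGroup_pCore q) ?_).symm
    rintro _ ⟨z, hz, rfl⟩
    exact (sylow_le_bigL hB S hz : _)
  have hy' : π y ∈ (R' : Subgroup G).map π := by rw [heq R', ← heq Q]; exact ⟨y, hy, rfl⟩
  obtain ⟨z, hz, hzy⟩ := hy'
  obtain ⟨w, -, rfl⟩ : ∃ w, w ∈ (R : Subgroup C) ∧ (w : G) = z := hz
  have hcomm : π (x * y * x⁻¹ * y⁻¹) = 1 := by
    have hw : x * (w : G) = w * x := (Subgroup.mem_centralizer_singleton_iff.1 w.2).symm
    simp only [map_mul, map_inv, ← hzy]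
    rw [← map_mul π x, hw, map_mul]
    group
  have hmem : x * y * x⁻¹ * y⁻¹ ∈ (Q : Subgroup G) :=
    mul_mem (mul_mem (mul_mem hx hy) (inv_mem hx)) (inv_mem hy)
  obtain ⟨k, hk⟩ := isQ_of_mem hmem
  have h1 : orderOf (x * y * x⁻¹ * y⁻¹) ∣ Nat.card K :=
    Subgroup.orderOf_dvd_natCard K ((QuotientGroup.eq_one_iff _).1 hcomm)
  have hcop : (Nat.card K).Coprime (q ^ k) := (CfsgLib.Solvable.coprime_card_pPrimeCore q).pow_right k
  have := orderOf_eq_one_iff.1 (Nat.eq_one_of_dvd_coprimes hcop h1 (dvd_of_eq hk))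
  exact mul_inv_eq_iff_eq_mul.1 (mul_inv_eq_one.1 this)

/-- Either the Sylow subgroup is abelian or it is normal. -/
theorem comm_or_normal (hB : Hyp q G) (Q : Sylow q G) :
    IsMulCommutative (Q : Subgroup G) ∨ (Q : Subgroup G).Normal := by
  by_contra hcon
  push Not at hcon
  obtain ⟨hnc, hnn⟩ := hcon
  have hdich : ∀ x ∈ (Q : Subgroup G), x ∈ Cfsg.pCore q G ∨ ∀ y ∈ (Q : Subgroup G), x * y = y * x := by
    intro x hx
    obtain ⟨r, a, hr, ha⟩ := hB x (isQ_of_mem hx)
    by_cases hrq : r = q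
    · subst hrq; exact Or.inl (mem_pCore_of_index (isQ_of_mem hx) ha)
    · exact Or.inr fun y hy => commute_of_index hB hx hy hr hrq ha
  obtain ⟨x, hx, hx'⟩ : ∃ x ∈ (Q : Subgroup G), x ∉ Cfsg.pCore q G := by
    by_contra! h
    exact hnn ((le_antisymm (fun z hz => h z hz) ((CfsgLib.Solvable.isPGroup_pCore q).le_sylow_of_normal Q)) ▸ inferInstance)
  obtain ⟨y, hy, hy'⟩ : ∃ y ∈ (Q : Subgroup G), ¬ ∀ z ∈ (Q : Subgroup G), y * z = z * y := by
    by_contra! h
    exact hnc ⟨⟨fun a b => Subtype.ext (h a a.2 b b.2)⟩⟩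
  have hxc := (hdich x hx).resolve_left hx'
  have hyc := (hdich y hy).resolve_right hy'
  rcases hdich _ (mul_mem hx hy) with h | h
  · exact hx' (by simpa using mul_mem h (inv_mem hyc))
  · refine hy' fun z hz => ?_
    have h1 := h z hz
    rw [mul_assoc, ← mul_assoc z x y, ← hxc z hz, mul_assoc] at h1
    exact mul_left_cancel h1

/-- A non-abelian normal Sylow subgroup is centralised by all elements of order prime to `q`. -/
theorem commute_of_normal (hB : Hyp q G) (Q : Sylow q G) [hQn : (Q : Subgroup G).Normal]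
    (hnc : ¬ IsMulCommutative (Q : Subgroup G)) {l : ℕ} [Fact l.Prime] (hl : l ≠ q) {h : G}
    (hh : IsPGroup l (zpowers h)) : ∀ z ∈ (Q : Subgroup G), Commute h z := by
  set Qs := (Q : Subgroup G)
  -- elements outside the centre have a fixed conjugate
  have hconj : ∀ z ∈ Qs, (∃ w ∈ Qs, ¬ Commute z w) → ∃ u ∈ Qs, Commute h (u * z * u⁻¹) := by
    intro z hz ⟨w, hw, hzw⟩
    obtain ⟨r, a, hr, ha⟩ := hB z (isQ_of_mem hz)
    have hrq : r = q := by
      by_contra hne; exact hzw (commute_of_index hB hz hw hr hne ha)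
    subst hrq
    set C := centralizer ({z} : Set G)
    obtain ⟨R⟩ : Nonempty (Sylow l C) := inferInstance
    have hcard : Nat.card ((R : Subgroup C).map C.subtype) = l ^ (Nat.card G).factorization l := by
      rw [Subgroup.card_map_of_injective C.subtype_injective, R.card_eq_multiplicity,
        ← Subgroup.card_mul_index C, ha, Nat.factorization_mul Nat.card_pos.ne' (pow_ne_zero _ hr.ne_zero),
        Finsupp.add_apply, hr.factorization_pow, Finsupp.single_eq_of_ne hl, add_zero]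
    let R' : Sylow l G := Sylow.ofCard _ hcard
    obtain ⟨S, hS⟩ := hh.exists_le_sylow
    obtain ⟨g, hg⟩ := MulAction.exists_smul_eq G S R'
    have hgh : g * h * g⁻¹ ∈ (R' : Subgroup G) := by
      rw [← hg, Sylow.coe_subgroup_smul, Subgroup.mem_pointwise_smul_iff_inv_smul_mem]
      simpa [mul_assoc] using hS (mem_zpowers h)
    obtain ⟨w', -, hw'⟩ := hgh
    have hcz : Commute (g * h * g⁻¹) z :=
      hw' ▸ (Subgroup.mem_centralizer_singleton_iff.1 w'.2 : (w' : G) * z = z * w')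
    obtain ⟨c, hc, u, hu, rfl⟩ := CfsgLib.CoprimeIndex.exists_mul_eq (H := C) (K := Qs)
      (ha ▸ coprime_index_sylow Q a) g
    refine ⟨u⁻¹, inv_mem hu, ?_⟩
    have hcz2 : c * z = z * c := Subgroup.mem_centralizer_singleton_iff.1 hc
    have := (Commute.conj_iff (c * u)⁻¹).2 hcz
    have e1 : (c * u)⁻¹ * (c * u * h * (c * u)⁻¹) * ((c * u)⁻¹)⁻¹ = h := by group
    have e2 : (c * u)⁻¹ * z * ((c * u)⁻¹)⁻¹ = u⁻¹ * z * u⁻¹⁻¹ := by
      rw [show (c * u)⁻¹ * z * ((c * u)⁻¹)⁻¹ = u⁻¹ * (c⁻¹ * (z * c)) * u by group, ← hcz2]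
      group
    rwa [e1, e2] at this
  -- the centre and the fixed points generate
  let F : Subgroup Qs := (centralizer ({h} : Set G)).subgroupOf Qs
  have hF : ∀ z : Qs, z ∈ F ↔ Commute h (z : G) := fun z => by
    rw [Subgroup.mem_subgroupOf, Subgroup.mem_centralizer_singleton_iff]
    exact ⟨fun e => e.symm, fun e => e.eq.symm⟩
  have hFZ : F ⊔ center Qs = ⊤ := by
    by_contra hne
    haveI : Finite (Subgroup Qs) := inferInstance
    obtain ⟨M, hM, hle⟩ := (eq_top_or_exists_le_coatom (F ⊔ center Qs)).resolve_left hne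
    haveI := Q.2.isNilpotent
    haveI : M.Normal := Subgroup.NormalizerCondition.normal_of_coatom M normalizerCondition_of_isNilpotent hM
    refine hM.1 (eq_top_iff.2 fun z _ => ?_)
    by_cases hz : z ∈ center Qs
    · exact hle (Subgroup.mem_sup_right hz)
    · obtain ⟨w, hw⟩ : ∃ w : Qs, ¬ Commute (z : G) w := by
        by_contra! hall
        exact hz (Subgroup.mem_center_iff.2 fun w => Subtype.ext (hall w).eq.symm)
      obtain ⟨u, hu, hcu⟩ := hconj z z.2 ⟨w, w.2, hw⟩
      have h1 : (⟨u, hu⟩ * z * ⟨u, hu⟩⁻¹ : Qs) ∈ M := hle (Subgroup.mem_sup_left ((hF _).2 hcu))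
      have := (inferInstance : M.Normal).conj_mem _ h1 (⟨u, hu⟩⁻¹ : Qs)
      simpa [mul_assoc] using this
  -- commutators are fixed
  have hcommF : ∀ a b : Qs, a * b * a⁻¹ * b⁻¹ ∈ F := by
    intro a b
    have hdec : ∀ c : Qs, ∃ f ∈ F, ∃ z ∈ center Qs, f * z = c := fun c =>
      Subgroup.mem_sup_of_normal_right.1 (hFZ ▸ Subgroup.mem_top c)
    obtain ⟨f, hf, z, hz, rfl⟩ := hdec a
    obtain ⟨f', hf', z', hz', rfl⟩ := hdec b
    have e : f * z * (f' * z') * (f * z)⁻¹ * (f' * z')⁻¹ = f * f' * f⁻¹ * f'⁻¹ := by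
      calc f * z * (f' * z') * (f * z)⁻¹ * (f' * z')⁻¹
          = f * (z * f') * z' * z⁻¹ * f⁻¹ * z'⁻¹ * f'⁻¹ := by group
        _ = f * (f' * z) * z' * z⁻¹ * f⁻¹ * z'⁻¹ * f'⁻¹ := by
            rw [← (Subgroup.mem_center_iff.1 hz f')]
        _ = f * f' * (z * z' * z⁻¹) * f⁻¹ * z'⁻¹ * f'⁻¹ := by group
        _ = f * f' * (z' * f⁻¹) * z'⁻¹ * f'⁻¹ := by
            rw [← (Subgroup.mem_center_iff.1 hz z'), mul_inv_cancel_right]
            group
        _ = f * f' * (f⁻¹ * z') * z'⁻¹ * f'⁻¹ := by rw [← (Subgroup.mem_center_iff.1 hz' f⁻¹)]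
        _ = _ := by group
    rw [e]
    exact mul_mem (mul_mem (mul_mem hf hf') (inv_mem hf)) (inv_mem hf')
  have hall : ∀ z : Qs, z ∈ F := by
    suffices hZ : center Qs ≤ F by
      intro z
      have : F = ⊤ := by rwa [sup_eq_left.2 hZ] at hFZ
      rw [this]; exact Subgroup.mem_top z
    intro z hz
    obtain ⟨w, hwF, hwc⟩ : ∃ w ∈ F, w ∉ center Qs := by
      by_contra! hall
      refine hnc ⟨⟨fun a b => ?_⟩⟩
      have : a ∈ center Qs := by
        have := hFZ ▸ Subgroup.mem_top a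
        rwa [sup_eq_right.2 (show F ≤ center Qs from hall)] at this
      exact (Subgroup.mem_center_iff.1 this b).symm
    obtain ⟨v, hv⟩ : ∃ v : Qs, ¬ Commute ((w * z : Qs) : G) v := by
      by_contra! hall
      refine hwc (Subgroup.mem_center_iff.2 fun v => ?_)
      have h1 : w * z * v = v * (w * z) := Subtype.ext (hall v).eq
      rw [mul_assoc, ← Subgroup.mem_center_iff.1 hz v, ← mul_assoc, ← mul_assoc] at h1
      exact (mul_right_cancel h1).symm
    obtain ⟨u, hu, hcu⟩ := hconj _ (w * z : Qs).2 ⟨v, v.2, hv⟩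
    have h1 : (⟨u, hu⟩ * (w * z) * ⟨u, hu⟩⁻¹ : Qs) ∈ F := (hF _).2 hcu
    set u' : Qs := ⟨u, hu⟩
    have h2 : u' * w * u'⁻¹ ∈ F := by
      simpa [mul_assoc] using mul_mem (hcommF u' w) hwF
    have h3 := mul_mem (inv_mem h2) h1
    have e : (u' * w * u'⁻¹)⁻¹ * (u' * (w * z) * u'⁻¹) = z := by
      calc (u' * w * u'⁻¹)⁻¹ * (u' * (w * z) * u'⁻¹) = u' * (z * u'⁻¹) := by group
        _ = u' * (u'⁻¹ * z) := by rw [← Subgroup.mem_center_iff.1 hz u'⁻¹]
        _ = z := by group
    rwa [e] at h3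
  exact fun z hz => (hF ⟨z, hz⟩).1 (hall ⟨z, hz⟩)

/-- The class sizes of two commuting elements. -/
theorem false_of_two_primes {x y : G} (hy : IsQ q y) (hxy : Commute x y) {r s : ℕ}
    [Fact r.Prime] [Fact s.Prime] (hrs : r ≠ s) (hrq : r ≠ q) {a b c : ℕ} (hb : b ≠ 0)
    (hx : (centralizer ({x} : Set G)).index = r ^ a) (hys : (centralizer ({y} : Set G)).index = s ^ b)
    (hz : (centralizer ({x * y} : Set G)).index = r ^ c) : False := by
  have hr : r.Prime := Fact.out
  have hs : s.Prime := Fact.out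
  set Cx := centralizer ({x} : Set G)
  set Cy := centralizer ({y} : Set G)
  set Cz := centralizer ({x * y} : Set G)
  have cop1 : Cz.index.Coprime Cy.index := by
    rw [hz, hys]; exact ((Nat.coprime_primes hr hs).2 hrs).pow c b
  have cop2 : Cx.index.Coprime Cy.index := by
    rw [hx, hys]; exact ((Nat.coprime_primes hr hs).2 hrs).pow a b
  let S : Set G := {w | ∃ k, k * (x * y) * k⁻¹ = w}
  set D := normalClosure (Set.range fun g : G => y⁻¹ * (g * y * g⁻¹)) with hD
  -- invariance of the class under translation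
  have key : ∀ w ∈ S, ∀ g g' : G, w * ((g * y * g⁻¹)⁻¹ * (g' * y * g'⁻¹)) ∈ S := by
    rintro _ ⟨k, rfl⟩ g g'
    obtain ⟨c1, hc1, c2, hc2, e⟩ := CfsgLib.CoprimeIndex.exists_mul_eq cop1 (k⁻¹ * g)
    rw [Subgroup.mem_centralizer_singleton_iff] at hc1 hc2
    set m := k * c1 with hm
    have hmk : k * (x * y) * k⁻¹ = m * (x * y) * m⁻¹ := by
      rw [hm, show k * c1 * (x * y) * (k * c1)⁻¹ = k * (c1 * (x * y)) * c1⁻¹ * k⁻¹ by group, hc1]
      group
    have hmg : g * y * g⁻¹ = m * y * m⁻¹ := by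
      have hg : g = m * c2 := by
        rw [hm, mul_assoc, ← e]; group
      rw [hg, show m * c2 * y * (m * c2)⁻¹ = m * (c2 * y) * c2⁻¹ * m⁻¹ by group, hc2]
      group
    obtain ⟨d1, hd1, d2, hd2, e'⟩ := CfsgLib.CoprimeIndex.exists_mul_eq cop2 (m⁻¹ * g')
    rw [Subgroup.mem_centralizer_singleton_iff] at hd1 hd2
    refine ⟨m * d1, ?_⟩
    rw [hmk, hmg]
    have hg' : g' = m * d1 * d2 := by rw [mul_assoc, ← e']; group
    rw [hg', show m * d1 * d2 * y * (m * d1 * d2)⁻¹ = m * d1 * (d2 * y) * d2⁻¹ * (m * d1)⁻¹ by group, hd2,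
      show m * d1 * (y * d2) * d2⁻¹ * (m * d1)⁻¹ = m * d1 * y * (m * d1)⁻¹ by group,
      show m * (x * y) * m⁻¹ * ((m * y * m⁻¹)⁻¹ * (m * d1 * y * (m * d1)⁻¹)) =
        m * x * d1 * y * (m * d1)⁻¹ by group,
      show m * d1 * (x * y) * (m * d1)⁻¹ = m * (d1 * x) * y * (m * d1)⁻¹ by group, hd1]
    group
  have hDS : ∀ d ∈ D, ∀ w, w * d ∈ S ↔ w ∈ S := by
    intro d hd
    induction hd using Subgroup.closure_induction with
    | mem t ht =>
      obtain ⟨t0, ht0, ht'⟩ := Group.mem_conjugatesOfSet_iff.1 ht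
      obtain ⟨g0, rfl⟩ := ht0
      obtain ⟨j, rfl⟩ := isConj_iff.1 ht'
      intro w
      have e : j * (y⁻¹ * (g0 * y * g0⁻¹)) * j⁻¹ = (j * y * j⁻¹)⁻¹ * (j * g0 * y * (j * g0)⁻¹) := by
        group
      rw [e]
      refine ⟨fun h => ?_, fun h => key w h j (j * g0)⟩
      have h2 := key _ h (j * g0) j
      simpa [mul_assoc] using h2
    | one => simp
    | mul t t' _ _ iht iht' => intro w; rw [← mul_assoc, iht', iht]
    | inv t _ iht => intro w; rw [← iht (w * t⁻¹), inv_mul_cancel_right]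
  have hcardS : Nat.card S = r ^ c := by
    rw [← hz]
    let F : G ⧸ Cz → S := Quotient.lift (fun k => (⟨k * (x * y) * k⁻¹, k, rfl⟩ : S)) fun k k' hkk => by
      have h := Subgroup.mem_centralizer_singleton_iff.1 (QuotientGroup.leftRel_apply.1 hkk)
      refine Subtype.ext ?_
      show k * (x * y) * k⁻¹ = k' * (x * y) * k'⁻¹
      calc k * (x * y) * k⁻¹ = k * ((x * y) * (k⁻¹ * k')) * k'⁻¹ := by group
        _ = k * ((k⁻¹ * k') * (x * y)) * k'⁻¹ := by rw [h]
        _ = _ := by group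
    rw [Subgroup.index_eq_card]
    refine (Nat.card_eq_of_bijective F ⟨fun u v e => ?_, fun w => ?_⟩).symm
    · induction u using QuotientGroup.induction_on with | _ k =>
      induction v using QuotientGroup.induction_on with | _ k' =>
      have e' : k * (x * y) * k⁻¹ = k' * (x * y) * k'⁻¹ := congrArg Subtype.val e
      refine QuotientGroup.eq.2 (Subgroup.mem_centralizer_singleton_iff.2 ?_)
      calc k⁻¹ * k' * (x * y) = k⁻¹ * (k' * (x * y) * k'⁻¹) * k' := by group
        _ = k⁻¹ * (k * (x * y) * k⁻¹) * k' := by rw [e']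
        _ = _ := by group
    · obtain ⟨_, k, rfl⟩ := w
      exact ⟨(k : G ⧸ Cz), rfl⟩
  have hDr : Nat.card D ∣ r ^ c := by
    rw [← hcardS]
    have hS : (QuotientGroup.mk : G → G ⧸ D) ⁻¹' ((QuotientGroup.mk : G → G ⧸ D) '' S) = S := by
      refine Set.Subset.antisymm (fun w hw => ?_) (Set.subset_preimage_image _ _)
      obtain ⟨w', hw', e⟩ := hw
      have := (hDS _ (QuotientGroup.eq.1 e) w').2 hw'
      rwa [mul_inv_cancel_left] at this
    have := Nat.card_congr (QuotientGroup.preimageMkEquivSubgroupProdSet D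
      ((QuotientGroup.mk : G → G ⧸ D) '' S))
    rw [Nat.card_prod, hS] at this
    exact ⟨_, this⟩
  obtain ⟨e, -, he⟩ := (Nat.dvd_prime_pow hr).1 hDr
  -- `D` centralises `y`
  have hDy : D ≤ Cy := by
    rw [← Subgroup.relIndex_eq_one]
    have h1 : Cy.relIndex D ∣ r ^ e := by rw [← he]; exact Subgroup.relIndex_dvd_card _ _
    have h2 : Cy.relIndex D ∣ s ^ b := by
      rw [← hys]
      have hpos : 0 < D.relIndex Cy := Nat.pos_of_ne_zero Subgroup.FiniteIndex.index_ne_zero
      have e1 : Cy.relIndex D * D.index = (Cy ⊓ D).index := by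
        rw [← Subgroup.inf_relIndex_right, Subgroup.relIndex_mul_index inf_le_right]
      have e2 : D.relIndex Cy * Cy.index = (Cy ⊓ D).index := by
        rw [← Subgroup.inf_relIndex_left, Subgroup.relIndex_mul_index inf_le_left]
      have e3 : D.relIndex Cy * (Cy ⊔ D).index = D.index := by
        rw [← Subgroup.relIndex_sup_right Cy D, Subgroup.relIndex_mul_index le_sup_right]
      refine Dvd.intro (Cy ⊔ D).index (Nat.eq_of_mul_eq_mul_left hpos ?_)
      rw [e2, ← e1, ← e3]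
      ring
    exact Nat.eq_one_of_dvd_coprimes (((Nat.coprime_primes hr hs).2 hrs).pow e b) h1 h2
  -- hence `y` is central
  have hycen : ∀ g : G, g * y * g⁻¹ = y := by
    intro g
    set d := y⁻¹ * (g * y * g⁻¹) with hd
    have hdD : d ∈ D := Subgroup.subset_normalClosure ⟨g, rfl⟩
    have hcd : Commute y d := (Subgroup.mem_centralizer_singleton_iff.1 (hDy hdD)).symm
    obtain ⟨k, hk⟩ := hy
    have hyk : y ^ q ^ k = 1 := hk ▸ pow_orderOf_eq_one y
    have h1 : d ^ q ^ k = 1 := by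
      have hyd : y * d = g * y * g⁻¹ := by rw [hd, mul_inv_cancel_left]
      have : (y * d) ^ q ^ k = 1 := by
        rw [hyd, conj_pow, hyk, mul_one, mul_inv_cancel]
      rwa [hcd.mul_pow, hyk, one_mul] at this
    have h2 : orderOf d ∣ r ^ e := he ▸ Subgroup.orderOf_dvd_natCard D hdD
    have h3 := Nat.eq_one_of_dvd_coprimes (((Nat.coprime_primes hr Fact.out).2 hrq).pow e k) h2
      (orderOf_dvd_of_pow_eq_one h1)
    have hd1 := orderOf_eq_one_iff.1 h3
    rw [hd, inv_mul_eq_one] at hd1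
    exact hd1.symm
  have htop : Cy = ⊤ := eq_top_iff.2 fun g _ => Subgroup.mem_centralizer_singleton_iff.2
    (mul_inv_eq_iff_eq_mul.1 (hycen g))
  rw [htop, Subgroup.index_top] at hys
  exact (Nat.one_lt_pow hb hs.one_lt).ne hys

end CfsgLib.ClassSizes
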