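import Cfsg.Agent.PPowOrbit.ClassSizes
import Cfsg.Agent.Kazarin.Main

/-!
The structure of groups with prime power class sizes on `q`-elements.
-/

set_option autoImplicit false
set_option linter.unusedSectionVars false

namespace CfsgLib.ClassSizes

open Subgroup

variable {G : Type*} [Group G] [Finite G] {q : ℕ} [Fact q.Prime]

theorem isSolvable_quotient_ker_add {p : ℕ} [Fact p.Prime] {A : Type*} [AddCommGroup A]
    [Module (ZMod q) A] [Finite A] (f : G → A →+ A) (h1 : ∀ x, f 1 x = x)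
    (hmul : ∀ a b x, f (a * b) x = f a (f b x)) (K : Subgroup G) [K.Normal]
    (hK : ∀ g, g ∈ K ↔ ∀ x, f g x = x) (hcop : ¬ q ∣ K.index)
    (hp : ∀ a : A, ∃ S : Subgroup G, (∀ g, g ∈ S ↔ f g a = a) ∧ ∃ k, S.index = p ^ k) :
    Group.IsSolvable (G ⧸ K) := by
  let σ : G →* Module.End (ZMod q) A :=
    { toFun := fun g => (f g).toZModLinearMap q
      map_one' := LinearMap.ext fun x => h1 x
      map_mul' := fun a b => LinearMap.ext fun x => hmul a b x }
  have hρ : PPowOrbit.IsPPow σ p := fun x => by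
    obtain ⟨S, hS, k, hk⟩ := hp x
    refine ⟨k, hk ▸ congrArg Subgroup.index ?_⟩
    ext g
    rw [PPowOrbit.mem_fixer, hS]
    rfl
  have hker : σ.ker = K := by
    ext g
    rw [MonoidHom.mem_ker, hK]
    exact ⟨fun h x => LinearMap.congr_fun h x, fun h => LinearMap.ext h⟩
  subst hker
  exact PPowOrbit.isSolvable (QuotientGroup.lift σ.ker σ le_rfl) (PPowOrbit.lift_ker_injective σ)
    (by rwa [← Subgroup.index_eq_card]) (PPowOrbit.isPPow_lift hρ σ.ker le_rfl)

/-- A coprime action on an elementary abelian `q`-group with orbits of `p`-power size. -/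
theorem isSolvable_quotient_ker {p : ℕ} [Fact p.Prime] {A : Type*} [CommGroup A] [Finite A]
    (hA : ∀ a : A, a ^ q = 1) (φ : G →* MulAut A) (hcop : ¬ q ∣ φ.ker.index)
    (hp : ∀ a : A, ∃ S : Subgroup G, (∀ g, g ∈ S ↔ φ g a = a) ∧ ∃ k, S.index = p ^ k) :
    Group.IsSolvable (G ⧸ φ.ker) := by
  letI : Module (ZMod q) (Additive A) :=
    AddCommGroup.zmodModule (G := Additive A) fun x => Additive.toMul.injective (hA x.toMul)
  refine isSolvable_quotient_ker_add (A := Additive A) (q := q) (p := p)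
    (fun g => MonoidHom.toAdditive (φ g).toMonoidHom) (fun x => ?_) (fun a b x => ?_) φ.ker
    (fun g => ?_) hcop fun a => ?_
  · show Additive.ofMul (φ 1 x.toMul) = x
    rw [map_one]; rfl
  · show Additive.ofMul (φ (a * b) x.toMul) = Additive.ofMul (φ a (φ b x.toMul))
    rw [map_mul]; rfl
  · rw [MonoidHom.mem_ker]
    refine ⟨fun h x => ?_, fun h => MulEquiv.ext fun a => congrArg Additive.toMul (h (Additive.ofMul a))⟩
    show Additive.ofMul (φ g x.toMul) = x
    rw [h]; rfl
  · obtain ⟨S, hS, hk⟩ := hp a.toMul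
    exact ⟨S, fun g => (hS g).trans ⟨fun h => congrArg Additive.ofMul h, fun h => congrArg Additive.toMul h⟩, hk⟩

/-- The solvability of a group over a self-centralizing abelian Sylow subgroup. -/
theorem isSolvable_of_selfCentralizing {p : ℕ} [Fact p.Prime] (V : Subgroup G) [hVn : V.Normal]
    [IsMulCommutative V] (hV : IsPGroup q V) (hVi : ¬ q ∣ V.index)
    (hC : centralizer (V : Set G) ≤ V)
    (hp : ∀ x ∈ V, ∃ a, (centralizer ({x} : Set G)).index = p ^ a) : Group.IsSolvable G := by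
  let Ω : Subgroup G :=
    { carrier := {x | x ∈ V ∧ x ^ q = 1}
      one_mem' := ⟨V.one_mem, one_pow _⟩
      mul_mem' := by
        intro a b ha hb
        refine ⟨V.mul_mem ha.1 hb.1, ?_⟩
        have hab : Commute a b := congrArg Subtype.val
          (IsMulCommutative.is_comm.comm (⟨a, ha.1⟩ : V) ⟨b, hb.1⟩)
        rw [hab.mul_pow, ha.2, hb.2, one_mul]
      inv_mem' := fun {a} ha => ⟨V.inv_mem ha.1, by rw [inv_pow, ha.2, inv_one]⟩ }
  letI : CommGroup Ω :=
    { (inferInstance : Group Ω) with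
      mul_comm := fun a b => Subtype.ext (congrArg Subtype.val
        (IsMulCommutative.is_comm.comm (⟨a.1, a.2.1⟩ : V) ⟨b.1, b.2.1⟩) :) }
  have hcj : ∀ g : G, ∀ x : G, x ∈ Ω → g * x * g⁻¹ ∈ Ω := fun g x hx =>
    ⟨hVn.conj_mem _ hx.1 g, by rw [conj_pow, hx.2, mul_one, mul_inv_cancel]⟩
  haveI hΩn : Ω.Normal := ⟨fun x hx g => hcj g x hx⟩
  let σ : G →* MulAut Ω := MulAut.conjNormal
  have hσ : ∀ (g : G) (x : Ω), σ g x = x ↔ g * x.1 = x.1 * g := by
    intro g x
    rw [Subtype.ext_iff, MulAut.conjNormal_apply, mul_inv_eq_iff_eq_mul]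
  have hVker : V ≤ σ.ker := fun g hg => MonoidHom.mem_ker.2 (MulEquiv.ext fun x =>
    (hσ g x).2 (congrArg Subtype.val
      (IsMulCommutative.is_comm.comm (⟨g, hg⟩ : V) ⟨_, x.2.1⟩)))
  have hkerV : σ.ker ≤ V := by
    intro g hg
    obtain ⟨m, hm⟩ := hV.exists_card_eq
    set h := g ^ q ^ m
    have hh : h ^ V.index = 1 := by
      rw [← pow_mul, ← hm, Subgroup.card_mul_index, pow_card_eq_one']
    have hcop : (Nat.card (zpowers h)).Coprime (Nat.card V) := by
      rw [Nat.card_zpowers, hm]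
      exact Nat.Coprime.coprime_dvd_left (orderOf_dvd_of_pow_eq_one hh)
        ((((Fact.out : q.Prime).coprime_iff_not_dvd).2 hVi).symm.pow_right m)
    have hle := CfsgLib.CoprimeAct.abelian_trivial_of_prime_order (A := zpowers h) (V := V)
      (by rw [Subgroup.normalizer_eq_top]; exact le_top) hcop (by
        intro v hv hov a ha
        obtain ⟨i, rfl⟩ := Subgroup.mem_zpowers_iff.1 ha
        have hvq : v ^ q = 1 := by
          have h1 : orderOf v ∣ q ^ m := hm ▸ Subgroup.orderOf_dvd_natCard V hv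
          rw [← (Nat.prime_dvd_prime_iff_eq hov Fact.out).1 (hov.dvd_of_dvd_pow h1), pow_orderOf_eq_one]
        have hgx : Commute g v := (hσ g ⟨v, hv, hvq⟩).1 (by rw [MonoidHom.mem_ker.1 hg]; rfl)
        exact ((hgx.pow_left _).zpow_left i).eq)
    have hhV : h ∈ V := hC (hle (mem_zpowers h))
    have hh1 : h = 1 := orderOf_eq_one_iff.1 (Nat.eq_one_of_dvd_coprimes hcop
      (by rw [Nat.card_zpowers]) (Subgroup.orderOf_dvd_natCard V hhV))
    have hgV : (QuotientGroup.mk' V g) = 1 := by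
      refine orderOf_eq_one_iff.1 (Nat.eq_one_of_dvd_coprimes
        ((((Fact.out : q.Prime).coprime_iff_not_dvd).2 hVi).pow_left m)
        (orderOf_dvd_of_pow_eq_one (by rw [← map_pow, show g ^ q ^ m = 1 from hh1, map_one]))
        (Subgroup.index_eq_card V ▸ orderOf_dvd_natCard _))
    exact (QuotientGroup.eq_one_iff g).1 hgV
  haveI : Group.IsSolvable (G ⧸ σ.ker) := by
    refine isSolvable_quotient_ker (q := q) (p := p) (fun x : Ω => Subtype.ext x.2.2) σ
      (fun h => hVi (h.trans (Subgroup.index_dvd_of_le hVker))) fun x => ?_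
    refine ⟨centralizer {(x : G)}, fun g => ?_, hp _ x.2.1⟩
    rw [Subgroup.mem_centralizer_singleton_iff, hσ]
  haveI : Group.IsSolvable σ.ker := Group.isSolvable_of_comm fun a b => Subtype.ext
    (congrArg Subtype.val (IsMulCommutative.is_comm.comm (⟨a.1, hkerV a.2⟩ : V) ⟨b.1, hkerV b.2⟩) :)
  exact Group.isSolvable_of_ker_le_range σ.ker.subtype (QuotientGroup.mk' σ.ker)
    (by rw [Subgroup.range_subtype, QuotientGroup.ker_mk'])

/-- A normal Sylow subgroup centralised by a `q'`-part has a normal complement. -/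
theorem exists_normal_complement (Q : Sylow q G) [(Q : Subgroup G).Normal]
    (hC : ∀ l : ℕ, l.Prime → l ≠ q → ¬ l ∣ (centralizer ((Q : Subgroup G) : Set G)).index) :
    ∃ N : Subgroup G, N.Normal ∧ N.IsComplement' (Q : Subgroup G) ∧
      N ≤ centralizer ((Q : Subgroup G) : Set G) := by
  set Qs := (Q : Subgroup G)
  set C := centralizer (Qs : Set G)
  obtain ⟨m, hm⟩ := Q.2.exists_card_eq
  obtain ⟨N, hN⟩ := Subgroup.exists_left_complement'_of_coprime (N := Qs)
    (hm ▸ coprime_index_sylow Q m)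
  have hNC : N ≤ C := by
    intro h hh
    refine (QuotientGroup.eq_one_iff h).1 (orderOf_eq_one_iff.1 ?_)
    by_contra hne
    obtain ⟨l, hl, hld⟩ := Nat.exists_prime_and_dvd hne
    have h1 : l ∣ C.index := hld.trans (Subgroup.index_eq_card C ▸ orderOf_dvd_natCard _)
    have h2 : l ∣ Nat.card N :=
      hld.trans ((orderOf_map_dvd (QuotientGroup.mk' C) h).trans (Subgroup.orderOf_dvd_natCard N hh))
    refine hC l hl ?_ h1
    rintro rfl
    exact Q.not_dvd_index (hN.index_eq_card ▸ h2)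
  refine ⟨N, ⟨fun n hn g => ?_⟩, hN, hNC⟩
  obtain ⟨a, b, hab⟩ : ∃ (a : N) (b : Qs), (a : G) * b = g := by
    obtain ⟨⟨a, b⟩, h⟩ := hN.2 g
    exact ⟨a, b, h⟩
  rw [← hab, show (a : G) * b * n * ((a : G) * b)⁻¹ = a * ((b : G) * n) * (b : G)⁻¹ * (a : G)⁻¹ by group,
    (Subgroup.mem_centralizer_iff.1 (hNC hn) b b.2 : (b : G) * n = n * b)]
  simpa [mul_assoc] using mul_mem (mul_mem a.2 hn) (inv_mem a.2)

end CfsgLib.ClassSizes
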