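import Cfsg.Agent.PPowOrbit.Setup
import Cfsg.Agent.SchurRing.BGroup
import Cfsg.Agent.Solvable.Basics

/-!
The odd case with a cyclic Sylow subgroup.
-/

set_option autoImplicit false

namespace CfsgLib.PPowOrbit

open Subgroup MulAction

variable {q : ℕ} [Fact q.Prime] {H : Type*} [Group H] [Finite H] {V : Type*} [AddCommGroup V]
  [Module (ZMod q) V] [Finite V] {p : ℕ} [Fact p.Prime] {ρ : H →* Module.End (ZMod q) V}

theorem Config.isSimple_of_cyclic (C : Config p ρ) (P : Sylow p H)
    (hc : IsCyclic (P : Subgroup H)) (N : Subgroup H) (hN : N.Normal) (htop : N ≠ ⊤) : N = ⊥ := by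
  haveI := hN
  haveI := hc
  by_contra hne
  obtain ⟨M, hMn, hM1, -, hMc, -, l, hl, hlM, hlP⟩ :=
    CfsgLib.Solvable.exists_normal_elementary_le hne (C.normal_solvable N hN htop)
  haveI := hMn
  haveI := Fact.mk hl
  by_cases hpl : l = p
  · subst hpl
    -- `M` lies in the cyclic Sylow subgroup, hence is central
    have hMP : M ≤ (P : Subgroup H) := by
      obtain ⟨Q, hQ⟩ := hlP.exists_le_sylow
      obtain ⟨g, hg⟩ := MulAction.exists_smul_eq H Q P
      intro x hx
      rw [← hg, Sylow.coe_subgroup_smul, Subgroup.mem_pointwise_smul_iff_inv_smul_mem]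
      exact hQ (by simpa using hMn.conj_mem x hx g⁻¹)
    haveI : IsCyclic M := isCyclic_of_injective (Subgroup.inclusion hMP)
      (Subgroup.inclusion_injective hMP)
    letI : CommGroup (MulAut M) :=
      { (inferInstance : Group (MulAut M)) with
        mul_comm := fun a b => (IsCyclic.mulAutMulEquiv M).injective (by
          rw [map_mul, map_mul, mul_comm]) }
    have hcen : M ≤ center H := fun m hm => Subgroup.mem_center_iff.2 fun g => by
      have h := apply_eq_one_of_commutator C.perfect (MulAut.conjNormal (H := M) : H →* MulAut M) g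
      have h' := congrArg Subtype.val (DFunLike.congr_fun h (⟨m, hm⟩ : M))
      rw [MulAut.conjNormal_apply] at h'
      exact mul_inv_eq_iff_eq_mul.1 h'
    refine hM1 (eq_bot_iff.2 fun m hm => Subgroup.mem_bot.2 ?_)
    exact eq_one_of_central C.perfect P inferInstance (hMP hm) (hcen hm)
  · refine hM1 (eq_bot_of_not_dvd C.ppow C.injective M fun hd => hpl ?_)
    obtain ⟨k, hk⟩ := hlP.exists_card_eq
    exact ((Nat.prime_dvd_prime_iff_eq Fact.out hl).1
      ((Fact.out : p.Prime).dvd_of_dvd_pow (hk ▸ hd))).symm

/-- The vector of a coset. -/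
noncomputable def cosetVec (ρ : H →* Module.End (ZMod q) V) (v : V) (x : H ⧸ fixer ρ v) : V :=
  ρ x.out v

theorem cosetVec_mk (v : V) (h : H) : cosetVec ρ v (h : H ⧸ fixer ρ v) = ρ h v := by
  obtain ⟨s, hs⟩ := QuotientGroup.mk_out_eq_mul (fixer ρ v) h
  rw [cosetVec, hs, mul_apply, s.2]

theorem cosetVec_smul (v : V) (h : H) (x : H ⧸ fixer ρ v) :
    cosetVec ρ v (h • x) = ρ h (cosetVec ρ v x) := by
  induction x using QuotientGroup.induction_on with | _ y =>
  rw [MulAction.Quotient.smul_coe, cosetVec_mk, cosetVec_mk, smul_eq_mul, mul_apply]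

theorem cosetVec_injective (v : V) : Function.Injective (cosetVec ρ v) := by
  intro x y h
  induction x using QuotientGroup.induction_on with | _ a =>
  induction y using QuotientGroup.induction_on with | _ b =>
  rw [cosetVec_mk, cosetVec_mk] at h
  exact QuotientGroup.eq.2 (by rw [mem_fixer, mul_apply, ← h, inv_apply_apply])

theorem Config.false_of_cyclic (C : Config p ρ) (hp : p ≠ 2) (P : Sylow p H)
    (hc : IsCyclic (P : Subgroup H)) : False := by
  classical
  have hpp : p.Prime := Fact.out
  have hsimple := C.isSimple_of_cyclic P hc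
  haveI : Nontrivial V := by
    by_contra h
    rw [not_nontrivial_iff_subsingleton] at h
    haveI := C.nontrivial
    obtain ⟨x, y, hxy⟩ := exists_pair_ne H
    exact hxy (C.injective (LinearMap.ext fun v => Subsingleton.elim _ _))
  obtain ⟨v, hv⟩ := exists_ne (0 : V)
  -- a generator of the Sylow subgroup
  obtain ⟨⟨g, hgP⟩, hg⟩ := hc.exists_zpow_surjective
  have hgen : zpowers g = (P : Subgroup H) := le_antisymm (zpowers_le.2 hgP) fun x hx => by
    obtain ⟨k, hk⟩ := hg ⟨x, hx⟩
    exact ⟨k, congrArg Subtype.val hk⟩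
  obtain ⟨n, hn⟩ := P.2.exists_card_eq
  have hgord : orderOf g = p ^ n := by rw [← Nat.card_zpowers, hgen, hn]
  have hn0 : n ≠ 0 := fun h => C.sylow_ne_bot P (Subgroup.card_eq_one.1 (by rw [hn, h, pow_zero]))
  have hPfix : ∀ u ∈ (P : Subgroup H), u ≠ 1 → ∀ w, ρ u w = w → w = 0 := fun u hu hu1 w hw =>
    C.eq_zero_of_central P hu1 (fun y hy => congrArg Subtype.val
      (mul_comm' (⟨y, hy⟩ : (P : Subgroup H)) ⟨u, hu⟩)) hw
  -- the regular action on the orbit
  set x0 : H ⧸ fixer ρ v := ((1 : H) : H ⧸ fixer ρ v) with hx0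
  have hmove : ∀ a : H, cosetVec ρ v (a • x0) = ρ a v := fun a => by
    rw [cosetVec_smul, hx0, cosetVec_mk, one_apply]
  have hbij : Function.Bijective fun u : zpowers g => u • x0 := by
    constructor
    · intro a b h
      have h' : ρ (a : H) v = ρ (b : H) v :=
        (hmove a).symm.trans ((congrArg (cosetVec ρ v) h).trans (hmove b))
      by_contra hab
      refine hv (hPfix ((b : H)⁻¹ * a) ?_ (fun e => hab (Subtype.ext (inv_mul_eq_one.1 e).symm)) v ?_)
      · exact mul_mem (inv_mem (hgen ▸ b.2)) (hgen ▸ a.2)
      · rw [mul_apply, h', inv_apply_apply]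
    · intro x
      induction x using QuotientGroup.induction_on with | _ h =>
      obtain ⟨u, hu, he⟩ := exists_sylow_apply C.ppow P v h
      refine ⟨⟨u, hgen.symm ▸ hu⟩, cosetVec_injective v ?_⟩
      show cosetVec ρ v (u • x0) = _
      rw [hmove, cosetVec_mk]
      exact he.symm
  have hcardΩ : Nat.card (H ⧸ fixer ρ v) = p ^ n := by
    rw [← Nat.card_eq_of_bijective _ hbij, Nat.card_zpowers, hgord]
  haveI := Fintype.ofFinite (H ⧸ fixer ρ v)
  have hstab : stabilizer H x0 = fixer ρ v := MulAction.stabilizer_quotient _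
  have hfne : fixer ρ v ≠ ⊤ := fun h => by
    have h1 := Subgroup.index_eq_one.2 h
    rw [Subgroup.index_eq_card, hcardΩ] at h1
    exact (Nat.one_lt_pow hn0 hpp.one_lt).ne' h1
  have hA : IsCoatom (stabilizer H x0) := by
    refine ⟨by rw [hstab]; exact hfne, fun B hB => ?_⟩
    by_contra hBne
    have hidx : B.index < p ^ n := by
      rw [← hcardΩ, ← Subgroup.index_eq_card]
      exact Subgroup.index_strictAnti (hstab ▸ hB)
    have hcore : B.normalCore = ⊥ := hsimple _ B.normalCore_normal fun h =>
      hBne (top_le_iff.1 (h ▸ B.normalCore_le))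
    have hmem := CfsgLib.SchurRing.pow_mem_normalCore (hgord ▸ pow_orderOf_eq_one g) hidx
    rw [hcore, Subgroup.mem_bot] at hmem
    have h2 := orderOf_dvd_of_pow_eq_one hmem
    rw [hgord] at h2
    have := (Nat.pow_dvd_pow_iff_le_right hpp.one_lt).1 h2
    omega
  -- double transitivity
  have h2t : IsMultiplyPretransitive H (H ⧸ fixer ρ v) 2 := by
    rcases Nat.lt_or_ge n 2 with h1 | h2
    · set φ := MulAction.toPermHom H (H ⧸ fixer ρ v)
      have hker : φ.ker = ⊥ := hsimple _ (MonoidHom.normal_ker φ) fun h => hfne (by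
        refine eq_top_iff.2 fun x _ => hstab ▸ ?_
        have : φ x = 1 := MonoidHom.mem_ker.1 (h ▸ Subgroup.mem_top x)
        exact congrArg (fun σ : Equiv.Perm (H ⧸ fixer ρ v) => σ x0) this)
      haveI : MulAction.IsPretransitive φ.range (H ⧸ fixer ρ v) := ⟨fun a b => by
        obtain ⟨h, hh⟩ := MulAction.exists_smul_eq H a b
        exact ⟨⟨φ h, h, rfl⟩, hh⟩⟩
      have hprime : (Fintype.card (H ⧸ fixer ρ v)).Prime := by
        rw [← Nat.card_eq_fintype_card, hcardΩ, show n = 1 by omega, pow_one]
        exact hpp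
      rcases Cfsg.Agent.S0675.result hprime φ.range with hs | h2
      · haveI := hs
        exact absurd (Group.isSolvable_of_isSolvable_injective (f := φ.rangeRestrict)
          fun a b h => (MonoidHom.ker_eq_bot_iff φ).1 hker (congrArg Subtype.val h)) C.not_solvable
      · rw [is_two_pretransitive_iff] at h2 ⊢
        intro a b c d hab hcd
        obtain ⟨⟨_, h, rfl⟩, e1, e2⟩ := h2 hab hcd
        exact ⟨h, e1, e2⟩
    · exact CfsgLib.SchurRing.two_transitive_of_prime_power h2 hgord hbij hA
  -- all linear relations are constant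
  have hsum0 : ∑ x : H ⧸ fixer ρ v, cosetVec ρ v x = 0 := by
    refine hPfix g hgP (fun e => ?_) _ ?_
    · rw [e, orderOf_one] at hgord
      exact (Nat.one_lt_pow hn0 hpp.one_lt).ne hgord
    · rw [map_sum]
      refine Fintype.sum_equiv (MulAction.toPerm g) _ _ fun x => ?_
      rw [← cosetVec_smul]; rfl
  have hN : (Fintype.card (H ⧸ fixer ρ v) : ZMod q) ≠ 0 := by
    rw [← Nat.card_eq_fintype_card, hcardΩ, Nat.cast_pow]
    exact pow_ne_zero _ C.cast_ne_zero
  have hrel : ∀ c : H ⧸ fixer ρ v → ZMod q, ∑ x, c x • cosetVec ρ v x = 0 →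
      ∀ x, (Fintype.card (H ⧸ fixer ρ v) : ZMod q) * c x = ∑ y, c y := by
    intro c hc x
    haveI := Fintype.ofFinite (stabilizer H x)
    set A : H ⧸ fixer ρ v → V := fun y => ∑ h : stabilizer H x, cosetVec ρ v ((h : H) • y) with hA'
    set K := (Fintype.card (stabilizer H x) : ZMod q)
    have hK : K ≠ 0 := inverse_card C.coprime (by
      rw [← Nat.card_eq_fintype_card]; exact Subgroup.card_subgroup_dvd_card _)
    have hAx : A x = K • cosetVec ρ v x := by
      simp only [hA', K, Nat.cast_smul_eq_nsmul]
      rw [Finset.sum_congr rfl fun (h : stabilizer H x) _ => by rw [mem_stabilizer_iff.1 h.2],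
        Finset.sum_const, Finset.card_univ]
    have hAeq : ∀ y z, y ≠ x → z ≠ x → A y = A z := by
      intro y z hy hz
      rw [is_two_pretransitive_iff] at h2t
      obtain ⟨k, hk1, hk2⟩ := h2t (Ne.symm hy) (Ne.symm hz)
      refine (Fintype.sum_equiv (Equiv.mulRight (⟨k, hk1⟩ : stabilizer H x)) _ _ fun h => ?_).symm
      show _ = cosetVec ρ v (((h : H) * k) • y)
      rw [mul_smul, hk2]
    have hAall : ∑ y, A y = 0 := by
      simp only [hA']
      rw [Finset.sum_comm]
      refine Finset.sum_eq_zero fun h _ => ?_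
      rw [← hsum0]
      exact Fintype.sum_equiv (MulAction.toPerm (h : H)) _ _ fun y => rfl
    have hcA : ∑ y, c y • A y = 0 := by
      simp only [hA', Finset.smul_sum]
      rw [Finset.sum_comm]
      refine Finset.sum_eq_zero fun h _ => ?_
      have := congrArg (ρ (h : H)) hc
      rw [map_zero, map_sum] at this
      simpa [cosetVec_smul] using this
    rw [← Finset.add_sum_erase _ _ (Finset.mem_univ x)] at hcA hAall ⊢
    set M := ((Finset.univ.erase x).card : ZMod q)
    have hNM : (Fintype.card (H ⧸ fixer ρ v) : ZMod q) = M + 1 := by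
      rw [← Finset.card_univ, ← Finset.card_erase_add_one (Finset.mem_univ x)]
      push_cast; rfl
    rcases Finset.eq_empty_or_nonempty (Finset.univ.erase x) with he | ⟨z, hz⟩
    · rw [he, Finset.sum_empty, add_zero]
      rw [hNM, show M = 0 by simp [M, he], zero_add, one_mul]
    have hconst : ∀ y ∈ Finset.univ.erase x, A y = A z := fun y hy =>
      hAeq y z (Finset.ne_of_mem_erase hy) (Finset.ne_of_mem_erase hz)
    rw [Finset.sum_congr rfl hconst, Finset.sum_const, ← Nat.cast_smul_eq_nsmul (ZMod q), hAx]
      at hAall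
    rw [Finset.sum_congr rfl fun y hy => by rw [hconst y hy], ← Finset.sum_smul, hAx] at hcA
    set T := ∑ y ∈ Finset.univ.erase x, c y
    have h0 : (M * c x * K - T * K) • cosetVec ρ v x = 0 := by
      have e1 : T • (M • A z) = -((T * K) • cosetVec ρ v x) := by
        rw [eq_neg_of_add_eq_zero_right hAall, smul_neg, smul_smul]
      have e2 : M • (T • A z) = -((M * (c x * K)) • cosetVec ρ v x) := by
        rw [eq_neg_of_add_eq_zero_right hcA, smul_neg, smul_smul, smul_smul, mul_assoc]
      rw [smul_comm] at e1
      rw [sub_smul, mul_assoc]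
      have := e2.symm.trans e1
      rw [neg_inj] at this
      rw [this, sub_self]
    have hvx : cosetVec ρ v x ≠ 0 := fun h =>
      hv (apply_injective ρ x.out (h.trans (map_zero _).symm))
    have h0' : K * (M * c x - T) = 0 := by
      have := (smul_eq_zero.1 h0).resolve_right hvx
      linear_combination this
    have := (mul_eq_zero.1 h0').resolve_left hK
    rw [hNM]
    linear_combination this
  rcases Nat.lt_or_ge n 2 with h1 | h2
  · -- degree `p`
    obtain ⟨x, y, hxy⟩ : ∃ x y : H ⧸ fixer ρ v, x ≠ y := by
      refine Fintype.exists_pair_of_one_lt_card ?_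
      rw [← Nat.card_eq_fintype_card, hcardΩ]
      exact Nat.one_lt_pow hn0 hpp.one_lt
    have hfix : fixer ρ (cosetVec ρ v x - cosetVec ρ v y) ≤ stabilizer H x ⊓ stabilizer H y := by
      intro h hh
      rw [mem_fixer, map_sub, ← cosetVec_smul, ← cosetVec_smul] at hh
      set c : H ⧸ fixer ρ v → ZMod q := fun z => (if h • x = z then 1 else 0) -
        (if h • y = z then 1 else 0) - (if x = z then 1 else 0) + (if y = z then 1 else 0) with hc'
      have hc : ∀ z, c z = 0 := by
        have h1 : ∑ z, c z • cosetVec ρ v z = 0 := by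
          simp only [hc', sub_smul, add_smul, ite_smul, one_smul, zero_smul, Finset.sum_add_distrib,
            Finset.sum_sub_distrib, Finset.sum_ite_eq, Finset.mem_univ, if_true]
          rw [hh]; abel
        have h2 : ∑ z, c z = 0 := by
          simp [hc', Finset.sum_add_distrib, Finset.sum_sub_distrib]
        intro z
        have := hrel c h1 z
        rw [h2] at this
        exact (mul_eq_zero.1 this).resolve_left hN
      have hne : h • x ≠ h • y := fun e => hxy (MulAction.injective h e)
      have hx' : h • x = x := by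
        by_contra hne'
        have cx := hc (h • x)
        simp only [hc', eq_self_iff_true, if_true, if_neg (Ne.symm hne), if_neg (Ne.symm hne'), sub_zero] at cx
        by_cases hyx : y = h • x
        · rw [if_pos hyx] at cx
          -- `2 = 0`, so the group has odd order and `h` cannot swap two points
          have hq2 : q = 2 := by
            rw [one_add_one_eq_two, ← Nat.cast_ofNat, ZMod.natCast_eq_zero_iff] at cx
            exact (Nat.prime_dvd_prime_iff_eq Fact.out Nat.prime_two).1 cx
          subst hq2
          have cy := hc x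
          simp only [hc', eq_self_iff_true, if_true, if_neg hne', if_neg (Ne.symm hxy)] at cy
          have hyx2 : h • y = x := by
            by_contra hne2
            rw [if_neg hne2] at cy
            simp at cy
          have hodd : Odd (orderOf h) := Nat.not_even_iff_odd.1 fun he =>
            C.coprime ((even_iff_two_dvd.1 he).trans (orderOf_dvd_natCard h))
          have h2' : h ^ 2 • x = x := by rw [pow_two, mul_smul, ← hyx, hyx2]
          obtain ⟨k, hk⟩ := hodd
          have h2k : ∀ j : ℕ, (h ^ 2) ^ j • x = x := by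
            intro j
            induction j with
            | zero => simp
            | succ j ih => rw [pow_succ, mul_smul, h2', ih]
          refine hne' ?_
          have h3 : h * (h ^ 2) ^ k = 1 := by
            rw [← pow_mul, ← pow_succ', ← hk, pow_orderOf_eq_one]
          calc h • x = h • ((h ^ 2) ^ k • x) := by rw [h2k]
            _ = x := by rw [← mul_smul, h3, one_smul]
        · rw [if_neg hyx, add_zero] at cx
          exact one_ne_zero cx
      refine ⟨hx', ?_⟩
      have cy := hc y
      by_contra hne'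
      change h • y ≠ y at hne'
      simp only [hc', hx', if_neg hxy, if_neg hne'] at cy
      simp at cy
    obtain ⟨k, hk⟩ := C.ppow.index_dvd hfix
    have hidx : (stabilizer H x ⊓ stabilizer H y).index = p * (p - 1) := by
      let O := {z : (H ⧸ fixer ρ v) × (H ⧸ fixer ρ v) // z.1 ≠ z.2}
      let F : H ⧸ (stabilizer H x ⊓ stabilizer H y) → O := Quotient.lift
        (fun h => (⟨(h • x, h • y), fun e => hxy (MulAction.injective h e)⟩ : O)) fun a b hab => by
          obtain ⟨e1, e2⟩ := Subgroup.mem_inf.1 (QuotientGroup.leftRel_apply.1 hab)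
          rw [mem_stabilizer_iff, mul_smul, inv_smul_eq_iff] at e1 e2
          exact Subtype.ext (Prod.ext e1.symm e2.symm)
      have hF : Function.Bijective F := by
        constructor
        · intro a b e
          induction a using QuotientGroup.induction_on with | _ a =>
          induction b using QuotientGroup.induction_on with | _ b =>
          have e' := congrArg Subtype.val e
          simp only [F, Quotient.lift_mk, Prod.mk.injEq] at e'
          refine QuotientGroup.eq.2 (Subgroup.mem_inf.2 ⟨?_, ?_⟩) <;>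
            rw [mem_stabilizer_iff, mul_smul, inv_smul_eq_iff]
          · exact e'.1.symm
          · exact e'.2.symm
        · rintro ⟨⟨a, b⟩, hab⟩
          rw [is_two_pretransitive_iff] at h2t
          obtain ⟨h, e1, e2⟩ := h2t hxy hab
          exact ⟨(h : H ⧸ (stabilizer H x ⊓ stabilizer H y)), Subtype.ext (Prod.ext e1 e2)⟩
      rw [Subgroup.index_eq_card, Nat.card_eq_of_bijective F hF, Nat.card_eq_fintype_card,
        Fintype.card_subtype,
        show (Finset.univ.filter fun z : (H ⧸ fixer ρ v) × (H ⧸ fixer ρ v) => z.1 ≠ z.2) =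
          (Finset.univ : Finset (H ⧸ fixer ρ v)).offDiag by ext; simp [Finset.mem_offDiag],
        Finset.offDiag_card, Finset.card_univ, ← Nat.card_eq_fintype_card, hcardΩ,
        show n = 1 by omega, pow_one, Nat.mul_sub, mul_one]
    rw [hidx] at hk
    have hd : p - 1 ∣ p ^ k := hk ▸ dvd_mul_left _ _
    obtain ⟨j, -, hj⟩ := (Nat.dvd_prime_pow hpp).1 hd
    have := hpp.two_le
    rcases Nat.eq_zero_or_pos j with rfl | hj0
    · rw [pow_zero] at hj; omega
    · have := Nat.le_of_dvd (by omega) (hj ▸ dvd_pow_self p hj0.ne' : p ∣ p - 1)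
      omega
  · -- degree a higher power of `p`
    set z := g ^ p ^ (n - 1) with hz
    have hzord : orderOf z = p := by
      rw [hz, orderOf_pow_of_dvd (pow_ne_zero _ hpp.ne_zero) (hgord ▸ pow_dvd_pow p (by omega)),
        hgord, Nat.pow_div (by omega) hpp.pos, show n - (n - 1) = 1 by omega, pow_one]
    have hzP : z ∈ (P : Subgroup H) := Subgroup.pow_mem _ hgP _
    haveI := Fintype.ofFinite (zpowers z)
    set Z : Finset (H ⧸ fixer ρ v) := Finset.univ.image fun u : zpowers z => (u : H) • x0 with hZ
    have hinj : Function.Injective fun u : zpowers z => (u : H) • x0 := fun a b h => by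
      have hle : zpowers z ≤ zpowers g := zpowers_le.2 (Subgroup.pow_mem _ (mem_zpowers g) _)
      have h' : (⟨(a : H), hle a.2⟩ : zpowers g) = ⟨(b : H), hle b.2⟩ := hbij.1 h
      exact Subtype.ext (congrArg Subtype.val h' :)
    have hzero : ∑ x ∈ Z, cosetVec ρ v x = 0 := by
      rw [hZ, Finset.sum_image fun a _ b _ h => hinj h]
      refine hPfix z hzP (fun e => ?_) _ ?_
      · rw [e, orderOf_one] at hzord; exact hpp.one_lt.ne hzord
      · rw [map_sum]
        refine Fintype.sum_equiv (Equiv.mulLeft (⟨z, mem_zpowers z⟩ : zpowers z)) _ _ fun u => ?_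
        rw [← cosetVec_smul, ← mul_smul]; rfl
    have hrel' := hrel (fun x => if x ∈ Z then 1 else 0) (by
      simpa [ite_smul] using hzero)
    have hZcard : Z.card = p := by
      rw [hZ, Finset.card_image_of_injective _ hinj, Finset.card_univ, ← Nat.card_eq_fintype_card,
        Nat.card_zpowers, hzord]
    obtain ⟨x, hx⟩ : ∃ x, x ∉ Z := by
      by_contra! hall
      have : Fintype.card (H ⧸ fixer ρ v) ≤ p := hZcard ▸
        (Finset.card_univ (α := H ⧸ fixer ρ v)) ▸ Finset.card_le_card fun x _ => hall x
      rw [← Nat.card_eq_fintype_card, hcardΩ] at this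
      have h3 := Nat.pow_le_pow_right hpp.pos h2
      nlinarith [hpp.two_le]
    obtain ⟨y, hy⟩ : Z.Nonempty := Finset.card_pos.1 (hZcard ▸ hpp.pos)
    have h1 := hrel' x
    have h2' := hrel' y
    rw [if_neg hx, mul_zero] at h1
    rw [if_pos hy, mul_one, ← h1] at h2'
    exact hN h2'

end CfsgLib.PPowOrbit
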