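import Cfsg.Agent.PPowOrbit.Setup
import Cfsg.Agent.InvChar.UniqueInvolution
import Cfsg.Agent.PLocal.OddPGroup

/-!
The odd case with a non-cyclic Sylow subgroup.
-/

set_option autoImplicit false

namespace CfsgLib.PPowOrbit

open Subgroup

variable {q : ℕ} [Fact q.Prime] {H : Type*} [Group H] [Finite H] {V : Type*} [AddCommGroup V]
  [Module (ZMod q) V] [Finite V] {p : ℕ} [Fact p.Prime] {ρ : H →* Module.End (ZMod q) V}

/-- The sum of the operators of a finite subgroup. -/
noncomputable def sumOp {G : Type*} [Group G] [Fintype G] (f : G →* Module.End (ZMod q) V)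
    (B : Subgroup G) : Module.End (ZMod q) V :=
  haveI : DecidablePred fun x => x ∈ B := Classical.decPred _
  ∑ b ∈ Finset.univ.filter (fun x => x ∈ B), f b

theorem apply_sumOp {G : Type*} [Group G] [Fintype G] (f : G →* Module.End (ZMod q) V)
    (B : Subgroup G) {c : G} (hc : c ∈ B) (v : V) : f c (sumOp f B v) = sumOp f B v := by
  classical
  simp only [sumOp, LinearMap.sum_apply, map_sum, ← mul_apply]
  refine Finset.sum_equiv (Equiv.mulLeft c) (fun x => ?_) (fun x _ => rfl)
  simp [B.mul_mem_cancel_left hc]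

theorem Config.not_noncyclic (C : Config p ρ) (hp : p ≠ 2) (P : Sylow p H)
    (hnc : ¬ IsCyclic (P : Subgroup H)) : False := by
  classical
  have hpp : p.Prime := Fact.out
  set G := ↥(P : Subgroup H)
  haveI := Fintype.ofFinite G
  set f : G →* Module.End (ZMod q) V := ρ.comp (P : Subgroup H).subtype with hf
  have hfinj : Function.Injective f := C.injective.comp Subtype.val_injective
  obtain ⟨E, -, hEn, ⟨hEc, hEp⟩, hEcard⟩ := CfsgLib.OddPGroup.exists_normal_elementary hp P.2
    (⊤ : Subgroup G) inferInstance (fun h => hnc (by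
      haveI := h
      exact isCyclic_of_surjective (⊤ : Subgroup G).subtype fun x => ⟨⟨x, mem_top x⟩, rfl⟩))
  haveI := hEn
  have hEne : E ≠ ⊥ := fun h => by
    rw [h, Subgroup.card_bot] at hEcard
    exact (Nat.one_lt_pow (by norm_num) hpp.one_lt).ne hEcard
  obtain ⟨z, hzE, hz1, hzc⟩ := CfsgLib.UniqueInvol.exists_central P.2 E hEne
  have hzfix : ∀ v, f z v = v → v = 0 := fun v hv =>
    C.eq_zero_of_central P (fun e => hz1 (Subtype.ext e))
      (fun g hg => congrArg Subtype.val (Subgroup.mem_center_iff.1 hzc ⟨g, hg⟩)) hv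
  have hcomm : ∀ x ∈ E, ∀ y ∈ E, x * y = y * x := fun x hx y hy =>
    congrArg Subtype.val (hEc.is_comm.comm ⟨x, hx⟩ ⟨y, hy⟩)
  -- subgroups of order `p`
  let Bs : Finset (Subgroup G) :=
    (Finset.univ.filter fun x => x ∈ E ∧ x ≠ 1).image fun x => zpowers x
  have hord : ∀ x ∈ E, x ≠ 1 → orderOf x = p := fun x hx h1 => orderOf_eq_prime (hEp x hx) h1
  have hBs : ∀ B ∈ Bs, B ≤ E ∧ Nat.card B = p := by
    intro B hB
    obtain ⟨x, hx, rfl⟩ := Finset.mem_image.1 hB
    obtain ⟨-, hxE, hx1⟩ := Finset.mem_filter.1 hx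
    exact ⟨zpowers_le.2 hxE, by rw [Nat.card_zpowers, hord x hxE hx1]⟩
  have hfib : ∀ B ∈ Bs, ((Finset.univ.filter fun x => x ∈ E ∧ x ≠ 1).filter fun x => zpowers x = B) =
      (Finset.univ.filter fun x => x ∈ B).erase 1 := by
    intro B hB
    ext x
    simp only [Finset.mem_filter, Finset.mem_univ, true_and, Finset.mem_erase]
    constructor
    · rintro ⟨⟨-, h1⟩, rfl⟩; exact ⟨h1, mem_zpowers x⟩
    · rintro ⟨h1, hxB⟩
      refine ⟨⟨(hBs B hB).1 hxB, h1⟩, Subgroup.eq_of_le_of_card_ge (zpowers_le.2 hxB) ?_⟩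
      rw [(hBs B hB).2, Nat.card_zpowers, hord x ((hBs B hB).1 hxB) h1]
  have hcardB : ∀ B ∈ Bs, (Finset.univ.filter fun x => x ∈ B).card = p := fun B hB => by
    refine Eq.trans ?_ (hBs B hB).2
    rw [Nat.card_eq_fintype_card, Fintype.card_subtype]
  have hBcard : Bs.card = p + 1 := by
    have h1 := Finset.card_eq_sum_card_image (fun x => zpowers x)
      (Finset.univ.filter fun x : G => x ∈ E ∧ x ≠ 1)
    rw [Finset.sum_congr rfl fun B hB => by
      rw [hfib B hB, Finset.card_erase_of_mem (by simp [B.one_mem]), hcardB B hB],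
      Finset.sum_const, smul_eq_mul] at h1
    have hcount : (Finset.univ.filter fun x : G => x ∈ E ∧ x ≠ 1).card = p ^ 2 - 1 := by
      rw [show (Finset.univ.filter fun x : G => x ∈ E ∧ x ≠ 1) =
        (Finset.univ.filter fun x => x ∈ E).erase 1 by ext; simp [and_comm],
        Finset.card_erase_of_mem (by simp [E.one_mem]), ← Fintype.card_subtype,
        ← Nat.card_eq_fintype_card, hEcard]
    rw [hcount] at h1
    refine Nat.eq_of_mul_eq_mul_right (show 0 < p - 1 by have := hpp.two_le; omega) (h1.symm.trans ?_)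
    rw [← Nat.sq_sub_sq p 1, one_pow]
  -- averaging
  have hsumE : ∀ v, sumOp f E v = 0 := fun v => hzfix _ (apply_sumOp f E hzE v)
  have hsum : ∀ v, ∑ B ∈ Bs, sumOp f B v = (p : ZMod q) • v := by
    intro v
    have h1 : ∀ B ∈ Bs, sumOp f B v =
        v + ∑ x ∈ (Finset.univ.filter fun x => x ∈ B).erase 1, f x v := by
      intro B hB
      have he := Finset.sum_erase_add (Finset.univ.filter fun x => x ∈ B) (fun x => f x v)
        (a := 1) (by simp [B.one_mem])
      simp only [map_one, Module.End.one_apply] at he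
      rw [add_comm v, he, sumOp, LinearMap.sum_apply]
    have h2 : v + ∑ x ∈ (Finset.univ.filter fun x : G => x ∈ E ∧ x ≠ 1), f x v = 0 := by
      rw [← hsumE v]
      have he := Finset.sum_erase_add (Finset.univ.filter fun x => x ∈ E) (fun x => f x v)
        (a := 1) (by simp [E.one_mem])
      simp only [map_one, Module.End.one_apply] at he
      rw [show (Finset.univ.filter fun x : G => x ∈ E ∧ x ≠ 1) =
        (Finset.univ.filter fun x => x ∈ E).erase 1 by ext; simp [and_comm], add_comm, he]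
      simp only [sumOp, LinearMap.sum_apply]
      exact Finset.sum_congr (by ext; simp) fun _ _ => rfl
    rw [Finset.sum_congr rfl h1, Finset.sum_add_distrib, Finset.sum_const, hBcard]
    rw [← Finset.sum_fiberwise_of_maps_to (g := fun x => zpowers x) (t := Bs) (fun x hx =>
      Finset.mem_image_of_mem _ hx) (f := fun x => f x v)] at h2
    rw [Finset.sum_congr rfl fun B hB => by rw [← hfib B hB], succ_nsmul,
      add_assoc, h2, add_zero, Nat.cast_smul_eq_nsmul]
  -- the summands
  let U : Subgroup G → Submodule (ZMod q) V := fun B => fixSpace f B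
  let e : Subgroup G → Module.End (ZMod q) V := fun B => (p : ZMod q)⁻¹ • sumOp f B
  have hmem : ∀ B v, e B v ∈ U B := fun B v b hb => by
    show f b ((p : ZMod q)⁻¹ • sumOp f B v) = _
    rw [map_smul, apply_sumOp f B hb]
    rfl
  have hself : ∀ B ∈ Bs, ∀ v ∈ U B, e B v = v := fun B hB v hv => by
    show (p : ZMod q)⁻¹ • sumOp f B v = v
    have : sumOp f B v = (p : ZMod q) • v := by
      rw [sumOp, LinearMap.sum_apply, Finset.sum_congr rfl fun b hb =>
        hv b (Finset.mem_filter.1 hb).2, Finset.sum_const, Nat.cast_smul_eq_nsmul]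
      congr 1
      exact (Finset.card_bij (fun x _ => x) (by simp) (by simp) (by simp)).trans (hcardB B hB)
    rw [this, inv_smul_smul₀ C.cast_ne_zero]
  have hother : ∀ B ∈ Bs, ∀ B' ∈ Bs, B ≠ B' → ∀ v ∈ U B, e B' v = 0 := by
    intro B hB B' hB' hne v hv
    refine hzfix _ ?_
    obtain ⟨x, hx, rfl⟩ := Finset.mem_image.1 hB
    obtain ⟨y, hy, rfl⟩ := Finset.mem_image.1 hB'
    obtain ⟨-, hxE, hx1⟩ := Finset.mem_filter.1 hx
    obtain ⟨-, hyE, hy1⟩ := Finset.mem_filter.1 hy
    let S : Subgroup G := fixer f (e (zpowers y) v)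
    have hyS : zpowers y ≤ S := fun b hb => hmem _ v b hb
    have hxS : zpowers x ≤ S := fun b hb => by
      show f b ((p : ZMod q)⁻¹ • sumOp f (zpowers y) v) = (p : ZMod q)⁻¹ • sumOp f (zpowers y) v
      rw [map_smul]
      congr 1
      simp only [sumOp, LinearMap.sum_apply, map_sum, ← mul_apply]
      refine Finset.sum_congr rfl fun c hc => ?_
      rw [hcomm b (zpowers_le.2 hxE hb) c (zpowers_le.2 hyE (Finset.mem_filter.1 hc).2), mul_apply,
        hv b hb]
    have hle : zpowers x ⊔ zpowers y ≤ E := sup_le (zpowers_le.2 hxE) (zpowers_le.2 hyE)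
    have htop : E = zpowers x ⊔ zpowers y := by
      refine (Subgroup.eq_of_le_of_card_ge hle ?_).symm
      obtain ⟨k, hk, hk'⟩ := (Nat.dvd_prime_pow hpp).1 (hEcard ▸ Subgroup.card_dvd_of_le hle)
      rw [hEcard, hk']
      refine Nat.pow_le_pow_right hpp.pos ?_
      by_contra hlt
      refine hne (Subgroup.eq_of_le_of_card_ge ((le_sup_left (b := zpowers y)).trans (le_of_eq ?_)) ?_)
      · refine (Subgroup.eq_of_le_of_card_ge le_sup_right ?_).symm
        rw [hk', Nat.card_zpowers, hord y hyE hy1]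
        exact (Nat.pow_le_pow_right hpp.pos (by omega : k ≤ 1)).trans_eq (pow_one p)
      · rw [Nat.card_zpowers, Nat.card_zpowers, hord y hyE hy1, hord x hxE hx1]
    exact (sup_le hxS hyS) (htop ▸ hzE)
  -- the non-zero summands
  let ι := {B // B ∈ Bs.filter fun B => U B ≠ ⊥}
  have hconj : ∀ (g : G), ∀ B ∈ Bs, B.map (MulAut.conj g).toMonoidHom ∈ Bs := by
    intro g B hB
    obtain ⟨x, hx, rfl⟩ := Finset.mem_image.1 hB
    obtain ⟨-, hxE, hx1⟩ := Finset.mem_filter.1 hx
    refine Finset.mem_image.2 ⟨g * x * g⁻¹, Finset.mem_filter.2 ⟨Finset.mem_univ _,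
      hEn.conj_mem x hxE g, fun e => hx1 (conj_eq_one_iff.1 e)⟩, ?_⟩
    rw [MonoidHom.map_zpowers]; rfl
  let D : Decomp ρ P ι :=
    { U := fun i => U i.1
      e := fun i => e i.1
      mem := fun i v => hmem i.1 v
      sum := fun v => by
        rw [Finset.sum_coe_sort (Bs.filter fun B => U B ≠ ⊥) (fun B => e B v),
          Finset.sum_filter_of_ne (p := fun B => U B ≠ ⊥) (f := fun B => e B v) (fun B _ hne hb => hne (by
            have := hmem B v
            rw [hb, Submodule.mem_bot] at this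
            exact this))]
        show ∑ B ∈ Bs, (p : ZMod q)⁻¹ • sumOp f B v = v
        rw [← Finset.smul_sum, hsum, inv_smul_smul₀ C.cast_ne_zero]
      self := fun i v hv => hself i.1 (Finset.mem_filter.1 i.2).1 v hv
      other := fun i j hij v hv => hother i.1 (Finset.mem_filter.1 i.2).1 j.1
        (Finset.mem_filter.1 j.2).1 (fun h => hij (Subtype.ext h)) v hv
      ne_bot := fun i => (Finset.mem_filter.1 i.2).2
      perm := fun u hu i => by
        set g : G := ⟨u, hu⟩
        have hmove : ∀ v ∈ U i.1, ρ u v ∈ U (i.1.map (MulAut.conj g).toMonoidHom) := by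
          rintro v hv _ ⟨b, hb, rfl⟩
          show f (g * b * g⁻¹) (f g v) = f g v
          rw [mul_apply, inv_apply_apply, mul_apply, hv b hb]
        obtain ⟨w, hw, hw0⟩ := (U i.1).exists_mem_ne_zero_of_ne_bot (Finset.mem_filter.1 i.2).2
        refine ⟨⟨_, Finset.mem_filter.2 ⟨hconj g i.1 (Finset.mem_filter.1 i.2).1, fun hb => ?_⟩⟩,
          hmove⟩
        have := hmove w hw
        rw [hb, Submodule.mem_bot] at this
        exact hw0 (apply_injective ρ u (this.trans (map_zero _).symm)) }
  -- at most `p` summands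
  have hzB : zpowers z ∈ Bs := Finset.mem_image.2 ⟨z, by simp [hzE, hz1], rfl⟩
  have hUz : U (zpowers z) = ⊥ := eq_bot_iff.2 fun v hv =>
    (Submodule.mem_bot _).2 (hzfix v (hv z (mem_zpowers z)))
  have hle : Fintype.card ι ≤ p := by
    rw [Fintype.card_coe]
    refine Nat.le_of_lt_succ (lt_of_lt_of_eq ?_ hBcard)
    refine Finset.card_lt_card ⟨Finset.filter_subset _ _, fun h => ?_⟩
    exact (Finset.mem_filter.1 (h hzB)).2 hUz
  haveI : Nontrivial V := by
    by_contra h
    rw [not_nontrivial_iff_subsingleton] at h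
    haveI := C.nontrivial
    obtain ⟨x, y, hxy⟩ := exists_pair_ne H
    exact hxy (C.injective (LinearMap.ext fun v => Subsingleton.elim _ _))
  obtain ⟨v, hv⟩ := exists_ne (0 : V)
  obtain ⟨i⟩ : Nonempty ι := by
    by_contra h
    rw [not_nonempty_iff] at h
    exact hv (by rw [← D.sum v]; simp)
  -- one orbit of the `p`-group
  letI : MulAction G ι := MulAction.compHom ι ((D.hom C.ppow).comp (P : Subgroup H).subtype)
  haveI : MulAction.IsPretransitive G ι := ⟨fun a b => by
    obtain ⟨u, hu, h⟩ := D.transitive C.ppow C.irred a b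
    exact ⟨⟨u, hu⟩, h⟩⟩
  obtain ⟨k, hk⟩ := P.2.card_orbit i
  rw [MulAction.orbit_eq_univ, Nat.card_coe_set_eq, Set.ncard_univ, Nat.card_eq_fintype_card] at hk
  rcases Nat.eq_zero_or_pos k with hk0 | hk0
  · rw [hk0, pow_zero, Fintype.card_eq_one_iff] at hk
    obtain ⟨i0, hi0⟩ := hk
    obtain ⟨b, hb, hbe⟩ := Finset.mem_image.1 (Finset.mem_filter.1 i0.2).1
    obtain ⟨-, hbE, hb1⟩ := Finset.mem_filter.1 hb
    refine hb1 (hfinj (LinearMap.ext fun w => ?_))
    rw [one_apply]
    conv_rhs => rw [← D.sum w]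
    conv_lhs => rw [← D.sum w]
    rw [map_sum]
    refine Finset.sum_congr rfl fun j _ => ?_
    have hj : (j : Subgroup G) = zpowers b := (congrArg Subtype.val (hi0 j)).trans hbe.symm
    exact hmem j.1 w b (hj ▸ mem_zpowers b)
  · refine D.false_of_card C.ppow C.irred C.perfect (le_antisymm hle ?_)
    rw [hk]
    exact Nat.le_self_pow hk0.ne' p

end CfsgLib.PPowOrbit
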