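import Cfsg.Agent.PPowOrbit.TwoField
import Cfsg.Agent.PPowOrbit.OddNoncyclic
import Cfsg.Agent.PPowOrbit.OddCyclic

/-!
A group acting coprimely and faithfully with all orbits of `p`-power size is solvable.
-/

set_option autoImplicit false

namespace CfsgLib.PPowOrbit

open Subgroup

universe u v

theorem Config.false {q : ℕ} [Fact q.Prime] {H : Type*} [Group H] [Finite H] {V : Type*}
    [AddCommGroup V] [Module (ZMod q) V] [Finite V] {p : ℕ} [Fact p.Prime]
    {ρ : H →* Module.End (ZMod q) V} (C : Config p ρ) : False := by
  by_cases hp : p = 2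
  · subst hp
    exact C.false_two
  obtain ⟨P⟩ : Nonempty (Sylow p H) := inferInstance
  by_cases hc : IsCyclic (P : Subgroup H)
  · exact C.false_of_cyclic hp P hc
  · exact C.not_noncyclic hp P hc

/-- Pushing the action to a quotient. -/
theorem isPPow_lift {q : ℕ} {H : Type*} [Group H] [Finite H] {V : Type*} [AddCommGroup V]
    [Module (ZMod q) V] {p : ℕ} [Fact p.Prime] {ρ : H →* Module.End (ZMod q) V} (hρ : IsPPow ρ p)
    (K : Subgroup H) [K.Normal] (hK : K ≤ ρ.ker) : IsPPow (QuotientGroup.lift K ρ hK) p := fun v => by
  obtain ⟨k, hk⟩ := hρ v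
  refine ⟨k, hk ▸ ?_⟩
  rw [← Subgroup.index_comap_of_surjective _ (QuotientGroup.mk'_surjective K)]
  rfl

theorem lift_ker_injective {q : ℕ} {H : Type*} [Group H] {V : Type*} [AddCommGroup V]
    [Module (ZMod q) V] (σ : H →* Module.End (ZMod q) V) :
    Function.Injective (QuotientGroup.lift σ.ker σ le_rfl) := by
  intro x y h
  induction x using QuotientGroup.induction_on with | _ a =>
  induction y using QuotientGroup.induction_on with | _ b =>
  rw [QuotientGroup.lift_mk, QuotientGroup.lift_mk] at h
  refine QuotientGroup.eq.2 (MonoidHom.mem_ker.2 ?_)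
  rw [map_mul, ← h, ← map_mul, inv_mul_cancel, map_one]

theorem isSolvable_aux (q p : ℕ) [Fact q.Prime] [Fact p.Prime] :
    ∀ n : ℕ, ∀ (H : Type u) [Group H] [Finite H] (V : Type v) [AddCommGroup V] [Module (ZMod q) V]
      [Finite V] (ρ : H →* Module.End (ZMod q) V), Nat.card H * Nat.card V = n →
      Function.Injective ρ → ¬ q ∣ Nat.card H → IsPPow ρ p → Group.IsSolvable H := by
  intro n
  induction n using Nat.strongRecOn with
  | ind n ih =>
    intro H _ _ V _ _ _ ρ hn hinj hq hρ
    by_contra hns
    have hV : 0 < Nat.card V := Nat.card_pos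
    have hnormal : ∀ N : Subgroup H, N.Normal → N ≠ ⊤ → Group.IsSolvable N := by
      intro N hN htop
      haveI := hN
      refine ih (Nat.card N * Nat.card V) (hn ▸ Nat.mul_lt_mul_of_pos_right ?_ hV) N V
        (ρ.comp N.subtype) rfl (hinj.comp N.subtype_injective)
        (fun h => hq (h.trans N.card_subgroup_dvd_card)) (hρ.comp_normal N)
      exact lt_of_le_of_ne (Nat.le_of_dvd Nat.card_pos N.card_subgroup_dvd_card)
        fun h => htop (Subgroup.eq_top_of_card_eq N h)
    have hperf : commutator H = ⊤ := by
      by_contra h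
      haveI := hnormal (commutator H) inferInstance h
      haveI : Group.IsSolvable (Abelianization H) := Group.isSolvable_of_comm fun a b => mul_comm a b
      exact hns (Group.isSolvable_of_ker_le_range (commutator H).subtype
        (Abelianization.of (G := H)) (by rw [Subgroup.range_subtype, Abelianization.ker_of]))
    haveI : Nontrivial H := by
      by_contra h
      rw [not_nontrivial_iff_subsingleton] at h
      exact hns (Group.isSolvable_of_comm fun a b => Subsingleton.elim _ _)
    -- irreducible
    have hirr : Irred ρ := by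
      intro W hW
      by_contra! hcon
      let ρW : H →* Module.End (ZMod q) W :=
        { toFun := fun h => (ρ h).restrict (hW h)
          map_one' := LinearMap.ext fun w => Subtype.ext (one_apply ρ w.1)
          map_mul' := fun a b => LinearMap.ext fun w => Subtype.ext (mul_apply ρ a b w.1) }
      let ρQ : H →* Module.End (ZMod q) (V ⧸ W) :=
        { toFun := fun h => W.mapQ W (ρ h) (fun w hw => hW h w hw)
          map_one' := LinearMap.ext fun x => by
            induction x using Submodule.Quotient.induction_on with | H v =>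
            exact congrArg Submodule.Quotient.mk (one_apply ρ v)
          map_mul' := fun a b => LinearMap.ext fun x => by
            induction x using Submodule.Quotient.induction_on with | H v =>
            exact congrArg Submodule.Quotient.mk (mul_apply ρ a b v) }
      have hρW : IsPPow ρW p := fun w => hρ.index_dvd (v := w.1) fun h hh => Subtype.ext hh
      have hρQ : IsPPow ρQ p := fun x => by
        induction x using Submodule.Quotient.induction_on with | H v =>
        exact hρ.index_dvd (v := v) fun h hh => congrArg Submodule.Quotient.mk (show ρ h v = v from hh)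
      have hcW : Nat.card W < Nat.card V := by
        refine lt_of_le_of_ne (Nat.card_le_card_of_injective _ Subtype.val_injective) fun h => ?_
        exact hcon.2 (SetLike.ext' (Set.eq_univ_of_forall fun x => by
          obtain ⟨y, hy⟩ :=
            ((Nat.bijective_iff_injective_and_card _).2 ⟨Subtype.val_injective, h⟩).2 x
          exact hy ▸ y.2))
      have hcQ : Nat.card (V ⧸ W) < Nat.card V := by
        refine lt_of_le_of_ne (Nat.card_le_card_of_surjective _ (Submodule.Quotient.mk_surjective W))
          fun h => hcon.1 ?_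
        have hb := (Nat.bijective_iff_surjective_and_card (Submodule.Quotient.mk : V → V ⧸ W)).2
          ⟨Submodule.Quotient.mk_surjective W, h.symm⟩
        refine eq_bot_iff.2 fun w hw => (Submodule.mem_bot _).2 (hb.1 ?_)
        rw [Submodule.Quotient.mk_zero, Submodule.Quotient.mk_eq_zero]
        exact hw
      have step : ∀ (X : Type v) [AddCommGroup X] [Module (ZMod q) X] [Finite X]
          (σ : H →* Module.End (ZMod q) X), IsPPow σ p → Nat.card X < Nat.card V →
          Group.IsSolvable (H ⧸ σ.ker) := by
        intro X _ _ _ σ hσ hX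
        have hle : Nat.card (H ⧸ σ.ker) ≤ Nat.card H :=
          Nat.card_le_card_of_surjective _ (QuotientGroup.mk'_surjective σ.ker)
        have hlt : Nat.card (H ⧸ σ.ker) * Nat.card X < n :=
          hn ▸ Nat.mul_lt_mul_of_le_of_lt hle hX Nat.card_pos
        exact ih _ hlt (H ⧸ σ.ker) X (QuotientGroup.lift σ.ker σ le_rfl) rfl
          (lift_ker_injective σ)
          (fun h => hq (h.trans (Subgroup.card_quotient_dvd_card _))) (isPPow_lift hσ σ.ker le_rfl)
      haveI hs1 := step W ρW hρW hcW
      haveI : Finite (V ⧸ W) := Finite.of_surjective _ (Submodule.Quotient.mk_surjective W)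
      haveI hs2 := step (V ⧸ W) ρQ hρQ hcQ
      have hprod : Group.IsSolvable ((H ⧸ ρW.ker) × (H ⧸ ρQ.ker)) :=
        Group.isSolvable_of_ker_le_range (MonoidHom.inl (H ⧸ ρW.ker) (H ⧸ ρQ.ker))
          (MonoidHom.snd (H ⧸ ρW.ker) (H ⧸ ρQ.ker)) (fun x hx => ⟨x.1, Prod.ext rfl hx.symm⟩)
      refine hns (Group.isSolvable_of_isSolvable_injective
        (f := (QuotientGroup.mk' ρW.ker).prod (QuotientGroup.mk' ρQ.ker)) ?_)
      rw [← MonoidHom.ker_eq_bot_iff, eq_bot_iff]
      intro h hh
      rw [MonoidHom.mem_ker, MonoidHom.prod_apply, Prod.mk_eq_one] at hh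
      have h1 : ρW h = 1 := (QuotientGroup.eq_one_iff h).1 hh.1
      have h2 : ρQ h = 1 := (QuotientGroup.eq_one_iff h).1 hh.2
      refine Subgroup.mem_bot.2 (eq_one_of_stabilizes hq hinj fun v => ?_)
      have hmem : ρ h v - v ∈ W :=
        (Submodule.Quotient.eq W).1 (DFunLike.congr_fun h2 (Submodule.Quotient.mk v))
      exact congrArg Subtype.val (DFunLike.congr_fun h1 ⟨_, hmem⟩)
    exact Config.false (p := p) (ρ := ρ)
      ⟨inferInstance, hperf, hnormal, hq, hinj, hρ, hirr⟩

/-- A group acting coprimely and faithfully with all orbits of `p`-power size is solvable. -/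
theorem isSolvable {q p : ℕ} [Fact q.Prime] [Fact p.Prime] {H : Type u} [Group H] [Finite H]
    {V : Type v} [AddCommGroup V] [Module (ZMod q) V] [Finite V]
    (ρ : H →* Module.End (ZMod q) V) (hinj : Function.Injective ρ) (hq : ¬ q ∣ Nat.card H)
    (hρ : IsPPow ρ p) : Group.IsSolvable H :=
  isSolvable_aux q p _ H V ρ rfl hinj hq hρ

end CfsgLib.PPowOrbit
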