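import Cfsg.Agent.PPowOrbit.Blocks
import Mathlib

/-!
The standing hypotheses of the minimal counterexample.
-/

set_option autoImplicit false

namespace CfsgLib.PPowOrbit

open Subgroup

variable {q : ℕ} [Fact q.Prime] {H : Type*} [Group H] [Finite H] {V : Type*} [AddCommGroup V]
  [Module (ZMod q) V] [Finite V] {p : ℕ} [Fact p.Prime]

/-- A minimal configuration. -/
structure Config (p : ℕ) (ρ : H →* Module.End (ZMod q) V) : Prop where
  nontrivial : Nontrivial H
  perfect : commutator H = ⊤
  normal_solvable : ∀ N : Subgroup H, N.Normal → N ≠ ⊤ → Group.IsSolvable N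
  coprime : ¬ q ∣ Nat.card H
  injective : Function.Injective ρ
  ppow : IsPPow ρ p
  irred : Irred ρ

variable {ρ : H →* Module.End (ZMod q) V}

theorem Config.not_solvable (C : Config p ρ) : ¬ Group.IsSolvable H := fun h => by
  haveI := C.nontrivial
  exact (IsSolvable.commutator_lt_top_of_nontrivial H).ne C.perfect

theorem Config.dvd_card (C : Config p ρ) : p ∣ Nat.card H := by
  by_contra h
  haveI := C.nontrivial
  have h1 := eq_bot_of_not_dvd C.ppow C.injective (⊤ : Subgroup H) (by rwa [Subgroup.card_top])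
  exact top_ne_bot h1

theorem Config.ne_q (C : Config p ρ) : p ≠ q := fun h => C.coprime (h ▸ C.dvd_card)

theorem Config.cast_ne_zero (C : Config p ρ) : (p : ZMod q) ≠ 0 :=
  inverse_card C.coprime C.dvd_card

theorem Config.sylow_ne_bot (C : Config p ρ) (P : Sylow p H) : (P : Subgroup H) ≠ ⊥ :=
  P.ne_bot_of_dvd_card C.dvd_card

/-- A Sylow subgroup is irreducible. -/
theorem Config.irred_sylow (C : Config p ρ) (P : Sylow p H) (W : Submodule (ZMod q) V)
    (hW : ∀ u ∈ (P : Subgroup H), ∀ w ∈ W, ρ u w ∈ W) : W = ⊥ ∨ W = ⊤ :=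
  C.irred W fun h _ hw => invariant_of_sylow C.ppow P (S := (W : Set V)) hW h hw

/-- A non-trivial element centralised by a Sylow subgroup fixes no non-zero vector. -/
theorem Config.eq_zero_of_central (C : Config p ρ) (P : Sylow p H) {u : H} (h1 : u ≠ 1)
    (hc : ∀ g ∈ (P : Subgroup H), g * u = u * g) {v : V} (hv : ρ u v = v) : v = 0 := by
  rcases C.irred_sylow P (LinearMap.eqLocus (ρ u) LinearMap.id) (fun g hg w hw => by
    simp only [LinearMap.mem_eqLocus, LinearMap.id_coe, id_eq] at hw ⊢
    rw [← mul_apply, ← hc g hg, mul_apply, hw]) with h | h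
  · have : v ∈ LinearMap.eqLocus (ρ u) LinearMap.id := hv
    rw [h, Submodule.mem_bot] at this
    exact this
  · refine absurd (C.injective (LinearMap.ext fun w => ?_)) h1
    have : w ∈ LinearMap.eqLocus (ρ u) LinearMap.id := h ▸ Submodule.mem_top
    rw [one_apply]
    exact this

/-- With an abelian Sylow subgroup a perfect group has no central `p`-elements. -/
theorem eq_one_of_central {G : Type*} [Group G] [Finite G] (hperf : commutator G = ⊤) (P : Sylow p G)
    (hab : IsMulCommutative (P : Subgroup G)) {z : G} (hz : z ∈ (P : Subgroup G))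
    (hc : z ∈ center G) : z = 1 := by
  haveI := hab
  letI : CommGroup (P : Subgroup G) :=
    { (inferInstance : Group (P : Subgroup G)) with mul_comm := IsMulCommutative.is_comm.comm }
  have key : ∀ (k : ℕ) (g₀ : G), g₀⁻¹ * z ^ k * g₀ ∈ (P : Subgroup G) →
      g₀⁻¹ * z ^ k * g₀ = z ^ k := fun k g₀ _ => by
    rw [mul_assoc, ← Subgroup.mem_center_iff.1 (Subgroup.pow_mem _ hc k) g₀, inv_mul_cancel_left]
  have h1 := apply_eq_one_of_commutator hperf
    (MonoidHom.transfer (MonoidHom.id (P : Subgroup G))) z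
  rw [MonoidHom.transfer_eq_pow _ z key, MonoidHom.id_apply] at h1
  have h2 : z ^ (P : Subgroup G).index = 1 := congrArg Subtype.val h1
  obtain ⟨k, hk⟩ := P.2 ⟨z, hz⟩
  have h3 : z ^ p ^ k = 1 := congrArg Subtype.val hk
  have hcop : (p ^ k).Coprime (P : Subgroup G).index :=
    Nat.Coprime.pow_left _ (((Fact.out : p.Prime).coprime_iff_not_dvd).2 P.not_dvd_index)
  have h4 : z ^ (p ^ k).gcd (P : Subgroup G).index = 1 := pow_gcd_eq_one.2 ⟨h3, h2⟩
  rwa [Nat.Coprime.gcd_eq_one hcop, pow_one] at h4

/-- A perfect group of order divisible by `2` has no cyclic Sylow `2`-subgroup. -/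
theorem not_isCyclic_sylow_two {G : Type*} [Group G] [Finite G] (hperf : commutator G = ⊤)
    (P : Sylow 2 G) (hne : (P : Subgroup G) ≠ ⊥) : ¬ IsCyclic (P : Subgroup G) := by
  intro hc
  haveI : Fact (Nat.Prime 2) := ⟨Nat.prime_two⟩
  have h2 : 2 ∣ Nat.card G := by
    obtain ⟨n, hn⟩ := P.2.exists_card_eq
    have hn0 : n ≠ 0 := fun h0 => hne (Subgroup.card_eq_one.1 (by rw [hn, h0, pow_zero]))
    exact (dvd_pow_self 2 hn0).trans (hn ▸ (P : Subgroup G).card_subgroup_dvd_card)
  have hmin : (Nat.card G).minFac = 2 := (Nat.minFac_eq_two_iff _).2 h2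
  haveI := hc
  have hP : normalizer ((P : Subgroup G) : Set G) ≤ centralizer ((P : Subgroup G) : Set G) :=
    IsCyclic.normalizer_le_centralizer hmin hc
  have hcomp := MonoidHom.ker_transferSylow_isComplement' P hP
  haveI : IsMulCommutative (P : Subgroup G) := inferInstance
  letI : CommGroup (P : Subgroup G) :=
    { (inferInstance : Group (P : Subgroup G)) with mul_comm := IsMulCommutative.is_comm.comm }
  have htop : (MonoidHom.transferSylow P hP).ker = ⊤ := eq_top_iff.2 fun g _ =>
    MonoidHom.mem_ker.2 (apply_eq_one_of_commutator hperf (MonoidHom.transferSylow P hP) g)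
  rw [htop, Subgroup.isComplement'_top_left] at hcomp
  exact hne hcomp

end CfsgLib.PPowOrbit
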