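import Cfsg.Agent.PPowOrbit.Setup
import Cfsg.Agent.InvChar.UniqueInvolution

/-!
The even case: the minimal configuration has dimension two, which is impossible.
-/

set_option autoImplicit false

namespace CfsgLib.PPowOrbit

open Subgroup

variable {q : ℕ} [Fact q.Prime] {H : Type*} [Group H] [Finite H] {V : Type*} [AddCommGroup V]
  [Module (ZMod q) V] [Finite V] {ρ : H →* Module.End (ZMod q) V}

theorem Config.two_ne (C : Config 2 ρ) : (2 : ZMod q) ≠ 0 := by
  have h := C.cast_ne_zero (p := 2)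
  simpa using h

/-- There is no involution with conjugates `± t`. -/
theorem Config.false_of_involution (C : Config 2 ρ) (P : Sylow 2 H) {z t : (P : Subgroup H)}
    (hzc : z ∈ center (P : Subgroup H)) (hz2 : z * z = 1) (hz1 : z ≠ 1) (ht2 : t * t = 1)
    (ht1 : t ≠ 1) (htz : t ≠ z)
    (hconj : ∀ g : (P : Subgroup H), g * t * g⁻¹ = t ∨ g * t * g⁻¹ = t * z) : False := by
  classical
  have hneg : ∀ v, ρ (z : H) v = -v := fun v => eq_neg_of_add_eq_zero_left
    (C.eq_zero_of_central P (fun e => hz1 (Subtype.ext e))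
      (fun g hg => congrArg Subtype.val (Subgroup.mem_center_iff.1 hzc ⟨g, hg⟩))
      (show ρ (z : H) (ρ (z : H) v + v) = ρ (z : H) v + v by
        rw [map_add, ← mul_apply, show (z : H) * z = 1 from congrArg Subtype.val hz2, one_apply,
          add_comm]))
  set T := ρ (t : H) with hT
  have hTT : ∀ v, T (T v) = v := fun v => by
    rw [hT, ← mul_apply, show (t : H) * t = 1 from congrArg Subtype.val ht2, one_apply]
  have h2 := C.two_ne
  let c : Fin 2 → ZMod q := ![1, -1]
  have hc : ∀ i, c i * c i = 1 := by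
    intro i; fin_cases i <;> simp [c]
  have hcne : ∀ i j, i ≠ j → c i * c j = -1 := by
    intro i j; fin_cases i <;> fin_cases j <;> simp [c]
  let D : Decomp ρ P (Fin 2) :=
    { U := fun i => LinearMap.eqLocus T (c i • LinearMap.id)
      e := fun i => (2 : ZMod q)⁻¹ • (LinearMap.id + c i • T)
      mem := fun i v => by
        simp only [LinearMap.mem_eqLocus, LinearMap.smul_apply, LinearMap.add_apply,
          LinearMap.id_coe, id_eq, map_smul, map_add, hTT, smul_add, smul_smul]
        rw [mul_assoc, hc i, mul_one, add_comm]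
      sum := fun v => by
        simp only [Fin.sum_univ_two, LinearMap.smul_apply, LinearMap.add_apply,
          LinearMap.id_coe, id_eq, c, Matrix.cons_val_zero, Matrix.cons_val_one, one_smul,
          neg_one_smul]
        rw [← smul_add, show v + T v + (v + -T v) = (2 : ZMod q) • v by rw [two_smul]; abel,
          smul_smul, inv_mul_cancel₀ h2, one_smul]
      self := fun i v hv => by
        simp only [LinearMap.mem_eqLocus, LinearMap.smul_apply, LinearMap.id_coe, id_eq] at hv
        simp only [LinearMap.smul_apply, LinearMap.add_apply, LinearMap.id_coe, id_eq, hv,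
          smul_smul, hc i, one_smul]
        rw [show v + v = (2 : ZMod q) • v from (two_smul _ v).symm, smul_smul,
          inv_mul_cancel₀ h2, one_smul]
      other := fun i j hij v hv => by
        simp only [LinearMap.mem_eqLocus, LinearMap.smul_apply, LinearMap.id_coe, id_eq] at hv
        simp only [LinearMap.smul_apply, LinearMap.add_apply, LinearMap.id_coe, id_eq, hv,
          smul_smul, hcne j i (Ne.symm hij), neg_one_smul, add_neg_cancel, smul_zero]
      ne_bot := fun i hb => by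
        have hall : ∀ v, (2 : ZMod q)⁻¹ • (v + c i • T v) = 0 := fun v => by
          have : (2 : ZMod q)⁻¹ • (v + c i • T v) ∈ LinearMap.eqLocus T (c i • LinearMap.id) := by
            simp only [LinearMap.mem_eqLocus, LinearMap.smul_apply,
              LinearMap.id_coe, id_eq, map_smul, map_add, hTT, smul_add, smul_smul]
            rw [mul_assoc, hc i, mul_one, add_comm]
          rw [hb, Submodule.mem_bot] at this
          exact this
        have hTv : ∀ v, c i • T v = -v := fun v => eq_neg_of_add_eq_zero_right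
          ((smul_eq_zero.1 (hall v)).resolve_left (inv_ne_zero h2))
        fin_cases i
        · refine htz (Subtype.ext (C.injective (LinearMap.ext fun v => ?_)))
          rw [hneg v]
          simpa [c] using hTv v
        · refine ht1 (Subtype.ext (C.injective (LinearMap.ext fun v => ?_)))
          rw [Subgroup.coe_one, one_apply]
          simpa [c] using hTv v
      perm := fun u hu i => by
        have hmove : ∀ v, T (ρ u v) =
            ρ u (ρ ((⟨u, hu⟩ : (P : Subgroup H))⁻¹ * t * ⟨u, hu⟩ : (P : Subgroup H)) v) :=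
          fun v => by
            rw [hT, ← mul_apply, ← mul_apply]
            congr 2
            simp only [Subgroup.coe_mul, InvMemClass.coe_inv]
            group
        have hcj := hconj (⟨u, hu⟩ : (P : Subgroup H))⁻¹
        rw [inv_inv] at hcj
        rcases hcj with h | h
        · refine ⟨i, fun v hv => ?_⟩
          simp only [LinearMap.mem_eqLocus, LinearMap.smul_apply, LinearMap.id_coe, id_eq] at hv ⊢
          rw [hmove, h, ← hT, hv, map_smul]
        · refine ⟨i.rev, fun v hv => ?_⟩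
          simp only [LinearMap.mem_eqLocus, LinearMap.smul_apply, LinearMap.id_coe, id_eq] at hv ⊢
          rw [hmove, h, Subgroup.coe_mul, mul_apply, hneg, map_neg, ← hT, hv, ← neg_smul, map_smul]
          congr 1
          fin_cases i <;> simp [c, Fin.rev] }
  exact D.false_of_card C.ppow C.irred C.perfect (Fintype.card_fin 2)

/-- A normal abelian subgroup of a Sylow `2`-subgroup is cyclic. -/
theorem Config.exists_generator (C : Config 2 ρ) (P : Sylow 2 H) (A : Subgroup (P : Subgroup H))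
    [A.Normal] (hAc : ∀ x ∈ A, ∀ y ∈ A, x * y = y * x) {z : (P : Subgroup H)} (hzA : z ∈ A)
    (hzc : z ∈ center (P : Subgroup H)) (hz : orderOf z = 2) : ∃ a, A = zpowers a := by
  have hz2 : z * z = 1 := by
    have h := pow_orderOf_eq_one z
    rwa [hz, pow_two] at h
  have hz1 : z ≠ 1 := fun h => by rw [h, orderOf_one] at hz; norm_num at hz
  by_cases hu : ∀ t ∈ A, t * t = 1 → t = 1 ∨ t = z
  · haveI : Fact (Nat.Prime 2) := ⟨Nat.prime_two⟩
    obtain ⟨a, ha⟩ := CfsgLib.UniqueInvol.exists_generator_of_comm (G := A)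
      (P.2.to_subgroup A) (A := ⊤) (fun x _ y _ => Subtype.ext (hAc x x.2 y y.2)) (by
        intro x y hx hy
        have key : ∀ w : A, orderOf w = 2 → (w : (P : Subgroup H)) = z := fun w hw => by
          rw [← Subgroup.orderOf_coe] at hw
          refine (hu w w.2 (by
            have h := pow_orderOf_eq_one (w : (P : Subgroup H))
            rwa [hw, pow_two] at h)).resolve_left fun h => ?_
          rw [h, orderOf_one] at hw; norm_num at hw
        rw [show y = x from Subtype.ext ((key y hy).trans (key x hx).symm)]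
        exact mem_zpowers x)
    refine ⟨a, le_antisymm (fun x hx => ?_) (zpowers_le.2 a.2)⟩
    obtain ⟨k, hk⟩ := Subgroup.mem_zpowers_iff.1 (ha ▸ Subgroup.mem_top (⟨x, hx⟩ : A))
    exact ⟨k, congrArg Subtype.val hk⟩
  · exfalso
    push Not at hu
    obtain ⟨t0, ht0A, ht02, ht01, ht0z⟩ := hu
    let Ω : Subgroup (P : Subgroup H) :=
      { carrier := {x | x ∈ A ∧ x * x = 1}
        one_mem' := ⟨one_mem _, one_mul 1⟩
        mul_mem' := fun {x y} hx hy => ⟨mul_mem hx.1 hy.1, by
          rw [mul_assoc x y, ← mul_assoc y x y, hAc y hy.1 x hx.1, mul_assoc x y y, hy.2, mul_one,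
            hx.2]⟩
        inv_mem' := fun {x} hx => ⟨inv_mem hx.1, by rw [← mul_inv_rev, hx.2, inv_one]⟩ }
    haveI : Ω.Normal := ⟨fun x hx g => ⟨(inferInstance : A.Normal).conj_mem x hx.1 g, by
      rw [show g * x * g⁻¹ * (g * x * g⁻¹) = g * (x * x) * g⁻¹ by group, hx.2, mul_one,
        mul_inv_cancel]⟩⟩
    set Z := zpowers z with hZ
    haveI : Z.Normal := ⟨fun x hx g => by
      obtain ⟨k, rfl⟩ := Subgroup.mem_zpowers_iff.1 hx
      rw [(Subgroup.mem_center_iff.1 (Subgroup.zpow_mem _ hzc k) g), mul_inv_cancel_right]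
      exact Subgroup.zpow_mem _ (mem_zpowers z) k⟩
    have hZmem : ∀ x ∈ Z, x = 1 ∨ x = z := by
      intro x hx
      obtain ⟨k, rfl⟩ := Subgroup.mem_zpowers_iff.1 hx
      rcases Int.even_or_odd k with ⟨j, rfl⟩ | ⟨j, rfl⟩
      · left
        rw [← two_mul, zpow_mul, zpow_two, hz2, one_zpow]
      · right
        rw [zpow_add, zpow_mul, zpow_two, hz2, one_zpow, one_mul, zpow_one]
    let π := QuotientGroup.mk' Z
    haveI : (Ω.map π).Normal := Subgroup.Normal.map inferInstance π (QuotientGroup.mk'_surjective Z)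
    haveI : Fact (Nat.Prime 2) := ⟨Nat.prime_two⟩
    have hne : Ω.map π ≠ ⊥ := fun h => by
      have : π t0 ∈ Ω.map π := ⟨t0, ⟨ht0A, ht02⟩, rfl⟩
      rw [h, Subgroup.mem_bot] at this
      rcases hZmem _ ((QuotientGroup.eq_one_iff t0).1 this) with e | e
      · exact ht01 e
      · exact ht0z e
    obtain ⟨_, ⟨t, ⟨htA, ht2⟩, rfl⟩, ht1, htc⟩ :=
      CfsgLib.UniqueInvol.exists_central (P.2.to_quotient Z) (Ω.map π) hne
    refine C.false_of_involution P hzc hz2 hz1 ht2 (fun e => ht1 (by rw [e, map_one])) (fun e => ?_) fun g => ?_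
    · exact ht1 ((QuotientGroup.eq_one_iff t).2 (e ▸ mem_zpowers z))
    · have h1 : π (g * t * g⁻¹) = π t := by
        rw [map_mul, map_mul, Subgroup.mem_center_iff.1 htc (π g), map_inv, mul_inv_cancel_right]
      rcases hZmem _ (QuotientGroup.eq.1 h1.symm) with e | e
      · exact Or.inl (inv_mul_eq_one.1 e).symm
      · exact Or.inr (eq_mul_of_inv_mul_eq e)

/-- The Sylow `2`-subgroup has a cyclic self-centralising normal subgroup `⟨a⟩` and every other element
acts on it by a multiplier congruent to `3` modulo `4`. -/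
theorem Config.exists_data (C : Config 2 ρ) (P : Sylow 2 H) :
    ∃ (a : (P : Subgroup H)) (m : ℕ), 2 ≤ m ∧ orderOf a = 2 ^ m ∧ (zpowers a).Normal ∧
      (zpowers a) ≠ ⊤ ∧
      ∀ s, s ∉ zpowers a → ∃ r : ℕ, r % 4 = 3 ∧ s * a * s⁻¹ = a ^ r := by
  haveI : Fact (Nat.Prime 2) := ⟨Nat.prime_two⟩
  obtain ⟨A, hAn, hAc, hAC⟩ := CfsgLib.UniqueInvol.exists_self_centralizing (P.2 : IsPGroup 2 _)
  haveI := hAn
  haveI : Nontrivial (P : Subgroup H) := (Subgroup.nontrivial_iff_ne_bot _).2 (C.sylow_ne_bot P)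
  haveI : Nontrivial (center (P : Subgroup H)) := P.2.center_nontrivial
  obtain ⟨⟨z, hzc⟩, hz⟩ := exists_prime_orderOf_dvd_card' (G := center (P : Subgroup H)) 2 (by
    obtain ⟨k, hk⟩ := (P.2.to_subgroup (center (P : Subgroup H))).exists_card_eq
    rw [hk]
    refine dvd_pow_self 2 fun h => ?_
    rw [h, pow_zero] at hk
    have := Finite.one_lt_card (α := center (P : Subgroup H))
    omega)
  rw [← Subgroup.orderOf_coe] at hz
  change orderOf z = 2 at hz
  have hzA : z ∈ A := hAC (Subgroup.mem_centralizer_iff.2 fun g _ => Subgroup.mem_center_iff.1 hzc g)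
  obtain ⟨a, rfl⟩ := C.exists_generator P A hAc hzA hzc hz
  obtain ⟨m, hm⟩ := (IsPGroup.iff_orderOf.1 P.2) a
  have hne : zpowers a ≠ ⊤ := fun h => not_isCyclic_sylow_two C.perfect P (C.sylow_ne_bot P)
    (isCyclic_iff_exists_zpowers_eq_top.2 ⟨a, h⟩)
  have hz1 : z ≠ 1 := fun h => by rw [h, orderOf_one] at hz; norm_num at hz
  have hzeq : ∀ y ∈ zpowers a, y * y = 1 → y ≠ 1 → y = z := by
    intro y hy hy2 hy1
    haveI : IsCyclic (zpowers a) := inferInstance
    have key : ∀ w : zpowers a, w * w = 1 → w ≠ 1 → orderOf w = 2 := fun w hw hw1 =>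
      orderOf_eq_prime (by rw [pow_two, hw]) hw1
    classical
    haveI := Fintype.ofFinite (zpowers a)
    have h2 := IsCyclic.card_pow_eq_one_le (α := zpowers a) (n := 2) (by norm_num)
    by_contra hyz
    have hz2 : z * z = 1 := by
      have h := pow_orderOf_eq_one z
      rwa [hz, pow_two] at h
    have : ({1, ⟨z, hzA⟩, ⟨y, hy⟩} : Finset (zpowers a)) ⊆ Finset.univ.filter fun w => w ^ 2 = 1 := by
      intro w hw
      simp only [Finset.mem_insert, Finset.mem_singleton] at hw
      simp only [Finset.mem_filter, Finset.mem_univ, true_and, pow_two]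
      rcases hw with rfl | rfl | rfl
      · exact one_mul 1
      · exact Subtype.ext hz2
      · exact Subtype.ext hy2
    have h3 := (Finset.card_le_card this).trans h2
    rw [Finset.card_insert_of_notMem, Finset.card_insert_of_notMem, Finset.card_singleton] at h3
    · omega
    · simp only [Finset.mem_singleton, Subtype.ext_iff]; exact fun e => hyz (Subtype.ext e.symm)
    · simp only [Finset.mem_insert, Finset.mem_singleton, Subtype.ext_iff, OneMemClass.coe_one]
      push Not
      exact ⟨fun e => hz1 (Subtype.ext e.symm), fun e => hy1 (Subtype.ext e.symm)⟩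
  -- multipliers
  have hmul : ∀ s, ∃ r : ℕ, s * a * s⁻¹ = a ^ r := fun s => by
    have := (inferInstance : (zpowers a).Normal).conj_mem a (mem_zpowers a) s
    exact ((Submonoid.mem_powers_iff _ _).1 (mem_powers_iff_mem_zpowers.2 this)).imp fun r h => h.symm
  have hnc : ∀ s, s ∉ zpowers a → s * a * s⁻¹ ≠ a := fun s hs h => hs (hAC
    (Subgroup.mem_centralizer_iff.2 fun g hg => by
      obtain ⟨k, rfl⟩ := Subgroup.mem_zpowers_iff.1 hg
      exact ((show Commute s a from mul_inv_eq_iff_eq_mul.1 h).zpow_right k).eq.symm))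
  obtain ⟨s0, hs0⟩ : ∃ s, s ∉ zpowers a := by
    by_contra! h
    exact hne (eq_top_iff.2 fun x _ => h x)
  have hodd : ∀ s r, s * a * s⁻¹ = a ^ r → 1 ≤ m → r % 2 = 1 := by
    intro s r hr hm1
    by_contra hre
    have h1 : orderOf (a ^ r) = 2 ^ m := by
      rw [← hr, show s * a * s⁻¹ = MulAut.conj s a from rfl, MulEquiv.orderOf_eq, hm]
    obtain ⟨k, rfl⟩ : 2 ∣ r := by omega
    have h2 : (a ^ (2 * k)) ^ 2 ^ (m - 1) = 1 := by
      rw [← pow_mul, show 2 * k * 2 ^ (m - 1) = 2 ^ m * k by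
        rw [show m = m - 1 + 1 by omega, pow_succ, show m - 1 + 1 - 1 = m - 1 by omega]; ring,
        pow_mul, ← hm, pow_orderOf_eq_one, one_pow]
    have := orderOf_dvd_of_pow_eq_one h2
    rw [h1] at this
    have := (Nat.pow_dvd_pow_iff_le_right (by norm_num : 1 < 2)).1 this
    omega
  have hm2 : 2 ≤ m := by
    by_contra hm2
    obtain ⟨r, hr⟩ := hmul s0
    refine hnc s0 hs0 (hr.trans ?_)
    rcases (show m = 0 ∨ m = 1 by omega) with h | h <;> rw [h] at hm
    · rw [pow_zero, orderOf_eq_one_iff] at hm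
      rw [hm, one_pow]
    · have := hodd s0 r hr (by omega)
      rw [pow_one] at hm
      conv_lhs => rw [← pow_mod_orderOf, hm, this, pow_one]
  refine ⟨a, m, hm2, hm, hAn, hne, fun s hs => ?_⟩
  obtain ⟨r, hr⟩ := hmul s
  refine ⟨r, ?_, hr⟩
  by_contra hr3
  have hr1 : r % 4 = 1 := by
    have := hodd s r hr (by omega)
    omega
  -- descend to an element whose square lies in `⟨a⟩`
  obtain ⟨u, hu, hu2, v, hv1, hv⟩ : ∃ u, u ∉ zpowers a ∧ u * u ∈ zpowers a ∧
      ∃ v : ℕ, v % 4 = 1 ∧ u * a * u⁻¹ = a ^ v := by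
    obtain ⟨k, hk⟩ := (IsPGroup.iff_orderOf.1 P.2) s
    have hex : ∃ j, s ^ 2 ^ j ∈ zpowers a := ⟨k, by rw [← hk, pow_orderOf_eq_one]; exact one_mem _⟩
    classical
    have hj0 : Nat.find hex ≠ 0 := fun h => hs (by
      have := Nat.find_spec hex
      rwa [h, pow_zero, pow_one] at this)
    refine ⟨s ^ 2 ^ (Nat.find hex - 1), Nat.find_min hex (by omega), ?_,
      r ^ 2 ^ (Nat.find hex - 1), ?_, CfsgLib.UniqueInvol.pow_conj_pow hr _⟩
    · rw [← pow_two, ← pow_mul, ← pow_succ, show Nat.find hex - 1 + 1 = Nat.find hex by omega]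
      exact Nat.find_spec hex
    · rw [Nat.pow_mod, hr1, one_pow, Nat.one_mod]
  -- the multiplier is `1 + 2 ^ (m - 1)`
  set n := m - 1 with hn
  have hmn : m = n + 1 := by omega
  have hz' : a ^ 2 ^ n = z := hzeq _ (Subgroup.pow_mem _ (mem_zpowers a) _)
    (by rw [← pow_add, ← two_mul, ← pow_succ', ← hmn, ← hm, pow_orderOf_eq_one])
    fun h => by
      have := orderOf_dvd_of_pow_eq_one h
      rw [hm] at this
      have := (Nat.pow_dvd_pow_iff_le_right (by norm_num : 1 < 2)).1 this
      omega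
  have hua : u * a * u⁻¹ = a * z := by
    have hne' := hnc u hu
    rw [hv] at hne' ⊢
    have hsq : a ^ (v * v) = a := by
      have h1 := CfsgLib.UniqueInvol.pow_conj_pow hv 2
      rw [pow_two v, pow_two u] at h1
      rw [← h1, mul_inv_eq_iff_eq_mul]
      obtain ⟨k, hk⟩ := Subgroup.mem_zpowers_iff.1 hu2
      rw [← hk]
      exact ((Commute.refl a).zpow_left k).eq
    obtain ⟨w, rfl⟩ : ∃ w, v = 4 * w + 1 := ⟨v / 4, by omega⟩
    have h2 : 2 ^ m ∣ 8 * w * (2 * w + 1) := by
      rw [← hm]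
      refine orderOf_dvd_of_pow_eq_one (mul_right_cancel (b := a) ?_)
      rw [one_mul, ← pow_succ]
      convert hsq using 2
      ring
    have h3 : 2 ^ m ∣ 8 * w := by
      refine (Nat.Coprime.pow_left m ?_).dvd_of_dvd_mul_right h2
      rw [Nat.prime_two.coprime_iff_not_dvd]
      omega
    have hodd' : ¬ 2 ^ m ∣ 4 * w := fun ⟨d, hd⟩ => hne' (by
      rw [pow_succ, hd, pow_mul, ← hm, pow_orderOf_eq_one, one_pow, one_mul])
    obtain ⟨d, hd⟩ := h3
    obtain ⟨e, rfl⟩ : Odd d := by
      rw [← Nat.not_even_iff_odd]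
      rintro ⟨e, rfl⟩
      exact hodd' ⟨e, by linarith⟩
    have hdd : 4 * w = 2 ^ n + 2 ^ m * e := by
      rw [hmn, pow_succ] at hd ⊢
      linarith
    rw [pow_succ, hdd, pow_add, pow_mul, ← hm, pow_orderOf_eq_one, one_pow, mul_one, hz']
    exact (Subgroup.mem_center_iff.1 hzc a).symm
  -- `m ≥ 3`
  have hm3 : 3 ≤ m := by
    by_contra hlt
    refine hnc u hu (hv.trans ?_)
    have hm' : m = 2 := by omega
    conv_lhs => rw [← pow_mod_orderOf, hm, hm', show (2 : ℕ) ^ 2 = 4 from rfl, hv1, pow_one]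
  obtain ⟨l, hl⟩ : ∃ l, n = l + 2 := ⟨n - 2, by omega⟩
  have hzsq : z * z = 1 := by
    have h := pow_orderOf_eq_one z
    rwa [hz, pow_two] at h
  have hcz : ∀ x, Commute x z := fun x => Subgroup.mem_center_iff.1 hzc x
  have hzpow2 : ∀ k : ℤ, z ^ (2 * k) = 1 := fun k => by rw [zpow_mul, zpow_two, hzsq, one_zpow]
  have hza : ∀ k : ℤ, u * a ^ k * u⁻¹ = a ^ k * z ^ k := fun k => by
    rw [← conj_zpow, hua, (hcz a).mul_zpow]
  have hz'' : a ^ (2 ^ n : ℤ) = z := by
    rw [show (2 ^ n : ℤ) = ((2 ^ n : ℕ) : ℤ) by push_cast; rfl, zpow_natCast, hz']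
  -- an involution outside `⟨a⟩`
  obtain ⟨j, hj⟩ := Subgroup.mem_zpowers_iff.1 hu2
  obtain ⟨i0, rfl⟩ : ∃ i0, j = 2 * i0 := by
    rcases Int.even_or_odd j with ⟨i0, rfl⟩ | ⟨i0, rfl⟩
    · exact ⟨i0, by ring⟩
    · exfalso
      have h1 : u * a ^ (2 * i0 + 1) * u⁻¹ = a ^ (2 * i0 + 1) := by rw [hj]; group
      rw [hza, mul_eq_left, zpow_add, hzpow2, one_mul, zpow_one] at h1
      exact hz1 h1
  set i : ℤ := -i0 + i0 * 2 ^ (l + 1) with hi
  set t := a ^ i * u with ht
  have ht2 : t * t = 1 := by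
    calc t * t = a ^ i * (u * a ^ i * u⁻¹) * (u * u) := by rw [ht]; group
      _ = a ^ i * a ^ i * a ^ (2 * i0) * z ^ i := by
        rw [hza, ← hj, mul_assoc (a ^ i) (a ^ i * z ^ i),
          mul_assoc (a ^ i) (z ^ i), ((hcz (a ^ (2 * i0))).zpow_right i).symm.eq,
          ← mul_assoc, ← mul_assoc]
      _ = a ^ ((2 ^ n : ℤ) * i0) * z ^ i := by
        rw [← zpow_add, ← zpow_add, hl]
        congr 2
        rw [hi]; ring
      _ = z ^ (2 * (i0 * 2 ^ l)) := by
        rw [zpow_mul, hz'', ← zpow_add]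
        congr 1
        rw [hi]; ring
      _ = 1 := hzpow2 _
  have htA : t ∉ zpowers a := fun h => hu (by
    have := mul_mem (Subgroup.zpow_mem _ (mem_zpowers a) (-i)) h
    rwa [ht, ← mul_assoc, ← zpow_add, neg_add_cancel, zpow_zero, one_mul] at this)
  refine C.false_of_involution P hzc hzsq hz1 ht2 (fun e => htA (e ▸ one_mem _))
    (fun e => htA (e ▸ hzA)) fun g => ?_
  obtain ⟨d, hd⟩ := hmul g
  set t' := g * t * g⁻¹ with ht'
  have ht'2 : t' * t' = 1 := by
    rw [ht', show g * t * g⁻¹ * (g * t * g⁻¹) = g * (t * t) * g⁻¹ by group, ht2, mul_one,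
      mul_inv_cancel]
  have hta : t * a * t⁻¹ = a * z := by
    rw [ht, show a ^ i * u * a * (a ^ i * u)⁻¹ = a ^ i * (u * a * u⁻¹) * (a ^ i)⁻¹ by group, hua,
      ← mul_assoc, ((Commute.refl a).zpow_left i).eq, mul_assoc a, mul_assoc a,
      ((hcz (a ^ i))).eq, mul_assoc, mul_inv_cancel, mul_one]
  have ht'a : t' * a * t'⁻¹ = a * z := by
    -- conjugate the relation at `g⁻¹ a g`
    obtain ⟨c, hc⟩ := Subgroup.mem_zpowers_iff.1 (show g⁻¹ * a * g ∈ zpowers a by
      simpa using (inferInstance : (zpowers a).Normal).conj_mem a (mem_zpowers a) g⁻¹)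
    have hzc' : z ^ c = z := by
      rcases Int.even_or_odd c with ⟨e, rfl⟩ | ⟨e, rfl⟩
      · exfalso
        have h1 : (g⁻¹ * a * g) ^ (2 ^ n : ℤ) = 1 := by
          rw [← hc, ← zpow_mul, show (e + e) * (2 ^ n : ℤ) = (2 ^ n : ℤ) * (2 * e) by ring,
            zpow_mul, hz'', hzpow2]
        have h2 : g⁻¹ * a ^ (2 ^ n : ℤ) * g = 1 := by
          rw [← h1]
          simpa using (conj_zpow (a := g⁻¹) (b := a) (i := (2 ^ n : ℤ))).symm
        rw [hz'', mul_assoc, ← (hcz g).eq, inv_mul_cancel_left] at h2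
        exact hz1 h2
      · rw [zpow_add, hzpow2, one_mul, zpow_one]
    calc t' * a * t'⁻¹ = g * (t * (g⁻¹ * a * g) * t⁻¹) * g⁻¹ := by rw [ht']; group
      _ = g * (a ^ c * z) * g⁻¹ := by
        rw [← hc, ← conj_zpow, hta, (hcz a).mul_zpow, hzc']
      _ = a * (g * z * g⁻¹) := by rw [hc]; group
      _ = a * z := by rw [(hcz g).eq, mul_inv_cancel_right]
  obtain ⟨e, he⟩ : ∃ e : ℤ, a ^ e = t' * t⁻¹ := by
    refine Subgroup.mem_zpowers_iff.1 (hAC (Subgroup.mem_centralizer_iff.2 fun x hx => ?_))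
    obtain ⟨k, rfl⟩ := Subgroup.mem_zpowers_iff.1 hx
    refine (Commute.zpow_right ?_ k).eq.symm
    show t' * t⁻¹ * a = a * (t' * t⁻¹)
    have htinv : t⁻¹ * a * t = a * z := by
      rw [show t⁻¹ = t from inv_eq_of_mul_eq_one_right ht2] at hta ⊢
      exact hta
    have hz't : t' * z = z * t' := (hcz t').eq
    calc t' * t⁻¹ * a = t' * (t⁻¹ * a * t) * t⁻¹ := by group
      _ = t' * a * z * t⁻¹ := by rw [htinv]; group
      _ = (t' * a * t'⁻¹) * (t' * z) * t⁻¹ := by group
      _ = a * z * (z * t') * t⁻¹ := by rw [ht'a, hz't]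
      _ = a * (z * z) * (t' * t⁻¹) := by group
      _ = a * (t' * t⁻¹) := by rw [hzsq, mul_one]
  have het : t' = a ^ e * t := by rw [he, inv_mul_cancel_right]
  have h2e : a ^ (2 * e) * z ^ e = 1 := by
    rw [← ht'2, het, show a ^ e * t * (a ^ e * t) = a ^ e * (t * a ^ e * t⁻¹) * (t * t) by group,
      ht2, mul_one, ← conj_zpow, hta, (hcz a).mul_zpow, two_mul, zpow_add, mul_assoc]
  have hez : z ^ e = 1 := by
    have h := congrArg (fun x => x ^ (2 ^ (l + 1) : ℤ)) h2e
    simp only [one_zpow] at h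
    rw [((hcz _).zpow_right e).mul_zpow, ← zpow_mul, ← zpow_mul,
      show 2 * e * 2 ^ (l + 1) = (2 ^ n : ℤ) * e by rw [hl]; ring, zpow_mul, hz'',
      show e * 2 ^ (l + 1) = 2 * (e * 2 ^ l) by ring, hzpow2, mul_one] at h
    exact h
  rw [hez, mul_one, two_mul, zpow_add] at h2e
  by_cases he1 : a ^ e = 1
  · exact Or.inl (by rw [het, he1, one_mul])
  · exact Or.inr (by
      rw [het, hzeq _ (Subgroup.zpow_mem _ (mem_zpowers a) e) h2e he1, (hcz t).eq])

end CfsgLib.PPowOrbit
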