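import Cfsg.Agent.PPowOrbit.Two

/-!
The even case concluded: the module is a field of degree two over the prime field.
-/

set_option autoImplicit false

namespace CfsgLib.PPowOrbit

open Subgroup

variable {q : ℕ} [Fact q.Prime] {H : Type*} [Group H] [Finite H] {V : Type*} [AddCommGroup V]
  [Module (ZMod q) V] [Finite V] {ρ : H →* Module.End (ZMod q) V}

/-- The cyclic subgroup of the data is irreducible. -/
theorem Config.irred_cyclic (C : Config 2 ρ) (P : Sylow 2 H) {a : (P : Subgroup H)}
    [(zpowers a).Normal] (hne : zpowers a ≠ ⊤)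
    (hidx : ∀ s t : (P : Subgroup H), s ∉ zpowers a → t ∉ zpowers a → s⁻¹ * t ∈ zpowers a) :
    ∀ W : Submodule (ZMod q) V, (∀ w ∈ W, ρ (a : H) w ∈ W) → W = ⊥ ∨ W = ⊤ := by
  classical
  intro W hW
  by_contra hcon
  push Not at hcon
  -- a minimal invariant subspace
  haveI : Finite (Submodule (ZMod q) V) := Finite.of_injective _ SetLike.coe_injective
  obtain ⟨X, ⟨hX, hX0⟩, hmin⟩ := Set.Finite.exists_minimal
    (s := {X : Submodule (ZMod q) V | (∀ w ∈ X, ρ (a : H) w ∈ X) ∧ X ≠ ⊥}) (Set.toFinite _)
    ⟨W, hW, hcon.1⟩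
  have hapow : ∀ (Y : Submodule (ZMod q) V), (∀ w ∈ Y, ρ (a : H) w ∈ Y) →
      ∀ x ∈ zpowers a, ∀ w ∈ Y, ρ (x : H) w ∈ Y := by
    intro Y hY x hx w hw
    obtain ⟨k, rfl⟩ := (Submonoid.mem_powers_iff _ _).1 (mem_powers_iff_mem_zpowers.2 hx)
    induction k with
    | zero => simpa [one_apply] using hw
    | succ k ih =>
      rw [pow_succ', Subgroup.coe_mul, mul_apply]
      exact hY _ (ih (Subgroup.pow_mem _ (mem_zpowers a) k))
  obtain ⟨s, hs⟩ : ∃ s, s ∉ zpowers a := by
    by_contra! h
    exact hne (eq_top_iff.2 fun x _ => h x)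
  set Y := Submodule.map (ρ (s : H)) X with hY
  have hYinv : ∀ w ∈ Y, ρ (a : H) w ∈ Y := by
    rintro _ ⟨w, hw, rfl⟩
    refine ⟨ρ (s⁻¹ * a * s : (P : Subgroup H)) w, hapow X hX _ ?_ w hw, ?_⟩
    · simpa using (inferInstance : (zpowers a).Normal).conj_mem a (mem_zpowers a) s⁻¹
    · rw [← mul_apply, ← mul_apply]
      congr 2
      simp only [Subgroup.coe_mul, InvMemClass.coe_inv]
      group
  -- invariance of a span under the Sylow subgroup
  have hP : ∀ u : (P : Subgroup H), (∀ w ∈ X, ρ (u : H) w ∈ X ⊔ Y) ∧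
      (∀ w ∈ Y, ρ (u : H) w ∈ X ⊔ Y) := by
    intro u
    by_cases hu : u ∈ zpowers a
    · exact ⟨fun w hw => Submodule.mem_sup_left (hapow X hX u hu w hw),
        fun w hw => Submodule.mem_sup_right (hapow Y hYinv u hu w hw)⟩
    · constructor
      · intro w hw
        refine Submodule.mem_sup_right ⟨ρ ((s⁻¹ * u : (P : Subgroup H)) : H) w,
          hapow X hX _ (hidx s u hs hu) w hw, ?_⟩
        rw [← mul_apply]
        congr 2
        simp
      · rintro _ ⟨w, hw, rfl⟩
        refine Submodule.mem_sup_left ?_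
        rw [← mul_apply]
        have : u * s ∈ zpowers a := by
          have := hidx u⁻¹ s (fun h => hu (inv_mem_iff.1 h)) hs
          rwa [inv_inv] at this
        exact hapow X hX _ this w hw
  have htop : X ⊔ Y = ⊤ := by
    refine (C.irred_sylow P (X ⊔ Y) fun u hu w hw => ?_).resolve_left fun h => hX0 ?_
    · obtain ⟨x, hx, y, hy, rfl⟩ := Submodule.mem_sup.1 hw
      rw [map_add]
      exact add_mem ((hP ⟨u, hu⟩).1 x hx) ((hP ⟨u, hu⟩).2 y hy)
    · exact le_bot_iff.1 (h ▸ le_sup_left)
  have hXtop : X ≠ ⊤ := fun h => by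
    have hWX : X ≤ W := by
      rcases eq_or_ne (X ⊓ W) ⊥ with hb | hb
      · rw [h, top_inf_eq] at hb; exact absurd hb hcon.1
      · exact le_trans (hmin (y := X ⊓ W) ⟨fun w hw => ⟨hX w hw.1, hW w hw.2⟩, hb⟩ inf_le_left) inf_le_right
    exact hcon.2 (top_le_iff.1 (h ▸ hWX))
  have hdisj : X ⊓ Y = ⊥ := by
    by_contra hb
    have hle : X ≤ Y := le_trans (hmin (y := X ⊓ Y) ⟨fun w hw => ⟨hX w hw.1, hYinv w hw.2⟩, hb⟩ inf_le_left)
      inf_le_right
    rw [sup_eq_right.2 hle, hY] at htop
    refine hXtop (top_le_iff.1 fun v _ => ?_)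
    obtain ⟨w, hw, e⟩ : ρ (s : H) v ∈ Submodule.map (ρ (s : H)) X := htop ▸ Submodule.mem_top
    rwa [← apply_injective ρ (s : H) e]
  have hc : IsCompl X Y := ⟨disjoint_iff.2 hdisj, codisjoint_iff.2 htop⟩
  have hY0 : Y ≠ ⊥ := fun h => hXtop (by rwa [h, sup_bot_eq] at htop)
  let D : Decomp ρ P (Fin 2) :=
    { U := ![X, Y]
      e := ![X.projection Y hc, Y.projection X hc.symm]
      mem := fun i v => by
        fin_cases i
        · exact Submodule.projection_apply_mem hc v
        · exact Submodule.projection_apply_mem hc.symm v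
      sum := fun v => by
        rw [Fin.sum_univ_two]
        obtain ⟨x, hx, y, hy, rfl⟩ := Submodule.mem_sup.1 (htop ▸ Submodule.mem_top : v ∈ X ⊔ Y)
        show X.projection Y hc (x + y) + Y.projection X hc.symm (x + y) = x + y
        rw [map_add, map_add, Submodule.projection_apply_left hc ⟨x, hx⟩,
          Submodule.projection_apply_right hc ⟨y, hy⟩,
          Submodule.projection_apply_left hc.symm ⟨y, hy⟩,
          Submodule.projection_apply_right hc.symm ⟨x, hx⟩, add_zero, zero_add]
      self := fun i v hv => by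
        fin_cases i
        · exact Submodule.projection_apply_left hc ⟨v, hv⟩
        · exact Submodule.projection_apply_left hc.symm ⟨v, hv⟩
      other := fun i j hij v hv => by
        fin_cases i <;> fin_cases j
        · exact absurd rfl hij
        · exact Submodule.projection_apply_right hc.symm ⟨v, hv⟩
        · exact Submodule.projection_apply_right hc ⟨v, hv⟩
        · exact absurd rfl hij
      ne_bot := fun i => by fin_cases i <;> [exact hX0; exact hY0]
      perm := fun u hu i => by
        by_cases h : (⟨u, hu⟩ : (P : Subgroup H)) ∈ zpowers a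
        · refine ⟨i, fun v hv => ?_⟩
          fin_cases i
          · exact hapow X hX _ h v hv
          · exact hapow Y hYinv _ h v hv
        · refine ⟨i.rev, fun v hv => ?_⟩
          fin_cases i
          · show ρ u v ∈ Y
            refine ⟨ρ ((s⁻¹ * ⟨u, hu⟩ : (P : Subgroup H)) : H) v,
              hapow X hX _ (hidx s _ hs h) v hv, ?_⟩
            rw [← mul_apply]
            congr 2
            simp
          · show ρ u v ∈ X
            obtain ⟨w, hw, rfl⟩ : v ∈ Submodule.map (ρ (s : H)) X := hv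
            rw [← mul_apply]
            have : (⟨u, hu⟩ : (P : Subgroup H)) * s ∈ zpowers a := by
              have := hidx (⟨u, hu⟩ : (P : Subgroup H))⁻¹ s (fun h' => h (inv_mem_iff.1 h')) hs
              rwa [inv_inv] at this
            exact hapow X hX _ this w hw }
  exact D.false_of_card C.ppow C.irred C.perfect (Fintype.card_fin 2)

/-- The module has dimension at most two. -/
theorem Config.finrank_le_two (C : Config 2 ρ) (P : Sylow 2 H) :
    Module.finrank (ZMod q) V ≤ 2 := by
  classical
  obtain ⟨a, m, hm, ha, hAn, hne, hmul⟩ := C.exists_data P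
  haveI := hAn
  have hcomm_mul : ∀ s, s ∈ zpowers a → s * a * s⁻¹ = a := fun s hs => by
    obtain ⟨k, rfl⟩ := Subgroup.mem_zpowers_iff.1 hs
    rw [((Commute.refl a).zpow_left k).eq, mul_inv_cancel_right]
  have hidx : ∀ s t : (P : Subgroup H), s ∉ zpowers a → t ∉ zpowers a → s⁻¹ * t ∈ zpowers a := by
    intro s t hs ht
    by_contra hst
    obtain ⟨r, hr3, hr⟩ := hmul s hs
    obtain ⟨r', hr'3, hr'⟩ := hmul t ht
    obtain ⟨k, hk3, hk⟩ := hmul _ hst
    have h1 : a ^ r' = a ^ (k * r) := by
      calc a ^ r' = t * a * t⁻¹ := hr'.symm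
        _ = s * (s⁻¹ * t * a * (s⁻¹ * t)⁻¹) * s⁻¹ := by group
        _ = _ := by rw [hk, ← conj_pow, hr, ← pow_mul, mul_comm r k]
    rw [pow_eq_pow_iff_modEq, ha] at h1
    have h4 : r' ≡ k * r [MOD 4] := h1.of_dvd (pow_dvd_pow 2 hm)
    unfold Nat.ModEq at h4
    rw [Nat.mul_mod, hk3, hr3, hr'3] at h4
    norm_num at h4
  have hirr := C.irred_cyclic P hne hidx
  obtain ⟨s, hs⟩ : ∃ s, s ∉ zpowers a := by
    by_contra! h
    exact hne (eq_top_iff.2 fun x _ => h x)
  obtain ⟨r, hr3, hr⟩ := hmul s hs
  have hss : s * s ∈ zpowers a := by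
    have := hidx s⁻¹ s (fun h => hs (inv_mem_iff.1 h)) hs
    rwa [inv_inv] at this
  haveI : Nontrivial V := by
    by_contra h
    rw [not_nontrivial_iff_subsingleton] at h
    haveI := C.nontrivial
    obtain ⟨x, y, hxy⟩ := exists_pair_ne H
    exact hxy (C.injective (LinearMap.ext fun v => Subsingleton.elim _ _))
  obtain ⟨v0, hv0⟩ := exists_ne (0 : V)
  set T : Module.End (ZMod q) V := ρ (a : H) with hT
  set R := Algebra.adjoin (ZMod q) ({T} : Set (Module.End (ZMod q) V)) with hR
  have hcomm : ∀ x ∈ R, Commute T x := fun x hx => by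
    induction hx using Algebra.adjoin_induction with
    | mem y hy => rw [Set.mem_singleton_iff.1 hy]
    | algebraMap c => exact (Algebra.commute_algebraMap_right c T)
    | add y z _ _ hy hz => exact hy.add_right hz
    | mul y z _ _ hy hz => exact hy.mul_right hz
  have hinj : ∀ x ∈ R, x ≠ 0 → Function.Injective x := by
    intro x hx hx0
    rw [← LinearMap.ker_eq_bot]
    refine (hirr (LinearMap.ker x) fun w hw => ?_).resolve_right fun h => hx0 ?_
    · rw [LinearMap.mem_ker] at hw ⊢
      rw [← Module.End.mul_apply, ← (hcomm x hx).eq, Module.End.mul_apply, hw, map_zero]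
    · exact LinearMap.ext fun w => LinearMap.mem_ker.1 (h ▸ Submodule.mem_top)
  haveI : Finite (Module.End (ZMod q) V) := Finite.of_injective _ DFunLike.coe_injective
  letI : CommRing R := Algebra.adjoinCommRingOfComm (ZMod q) (fun x hx y hy => by
    rw [Set.mem_singleton_iff.1 hx, Set.mem_singleton_iff.1 hy])
  haveI : Nontrivial R := ⟨0, 1, fun h => hv0 (by
    have := congrArg (fun x : R => (x : Module.End (ZMod q) V) v0) h
    simpa using this.symm)⟩
  haveI : NoZeroDivisors R := ⟨fun {x y} h => by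
    by_contra! hxy
    have hx : (x : Module.End (ZMod q) V) ≠ 0 := fun e => hxy.1 (Subtype.ext e)
    refine hxy.2 (Subtype.ext (LinearMap.ext fun w => hinj _ x.2 hx ?_))
    have := congrArg (fun z : R => (z : Module.End (ZMod q) V) w) h
    simpa using this⟩
  haveI : IsDomain R := NoZeroDivisors.to_isDomain R
  letI : Field R := (Finite.isField_of_domain R).toField
  -- evaluation
  let ev : R →ₗ[ZMod q] V :=
    { toFun := fun x => (x : Module.End (ZMod q) V) v0
      map_add' := fun x y => rfl
      map_smul' := fun c x => rfl }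
  have hev : Function.Bijective ev := by
    constructor
    · intro x y h
      by_contra hxy
      have h0 : ((x : Module.End (ZMod q) V) - y) ≠ 0 := fun e => hxy (Subtype.ext (sub_eq_zero.1 e))
      refine hv0 (hinj _ (sub_mem x.2 y.2) h0 ?_)
      rw [map_zero, LinearMap.sub_apply]
      exact sub_eq_zero.2 h
    · rw [← LinearMap.range_eq_top]
      refine (hirr _ ?_).resolve_left fun h => hv0 ?_
      · rintro _ ⟨x, rfl⟩
        exact ⟨⟨T * x, mul_mem (Algebra.self_mem_adjoin_singleton _ _) x.2⟩, rfl⟩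
      · have : (1 : R).1 v0 ∈ LinearMap.range ev := ⟨1, rfl⟩
        rw [h, Submodule.mem_bot] at this
        simpa using this
  have hrank : Module.finrank (ZMod q) R = Module.finrank (ZMod q) V :=
    (LinearEquiv.ofBijective ev hev).finrank_eq
  rw [← hrank]
  -- the Frobenius map
  set d := Module.finrank (ZMod q) R with hd
  set F := FiniteField.frobeniusAlgHom (ZMod q) R with hF
  have hordF : orderOf F = d := FiniteField.orderOf_frobeniusAlgHom (ZMod q) R
  set t : R := ⟨T, Algebra.self_mem_adjoin_singleton _ _⟩ with ht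
  have hFpow : ∀ k : ℕ, ((F ^ k) t : Module.End (ZMod q) V) = ρ ((a : H) ^ q ^ k) := by
    intro k
    induction k with
    | zero => simp [ht, hT]
    | succ k ih =>
      rw [pow_succ', AlgHom.mul_apply, pow_succ, pow_mul, map_pow, ← ih]
      show (((F ^ k) t) ^ Fintype.card (ZMod q) : R).1 = _
      rw [ZMod.card, SubmonoidClass.coe_pow]
  have hoa : orderOf (a : H) = 2 ^ m := by rw [Subgroup.orderOf_coe, ha]
  have hq2 : (q : ℕ) % 2 = 1 := by
    rcases (Fact.out : q.Prime).eq_two_or_odd with h | h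
    · subst h; exact absurd rfl C.ne_q
    · exact h
  have hdm : d ∣ 2 ^ (m - 1) := by
    rw [← hordF]
    refine orderOf_dvd_of_pow_eq_one (AlgHom.adjoin_ext fun x hx => ?_)
    obtain rfl := Set.mem_singleton_iff.1 hx
    refine Subtype.ext ((hFpow _).trans ?_)
    show ρ _ = T
    rw [hT]
    congr 1
    conv_rhs => rw [← pow_one (a : H)]
    have htot : (2 ^ m).totient = 2 ^ (m - 1) := by
      rw [Nat.totient_prime_pow Nat.prime_two (by omega : 0 < m)]
      simp
    rw [pow_eq_pow_iff_modEq, hoa, ← htot]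
    refine Nat.ModEq.pow_totient (Nat.Coprime.pow_right _ ?_)
    rw [Nat.coprime_two_right]
    exact Nat.odd_iff.2 hq2
  -- conjugation by `s`
  have hconj : ∀ x ∈ R, ρ (s : H) * x * ρ (s : H)⁻¹ ∈ R := fun x hx => by
    induction hx using Algebra.adjoin_induction with
    | mem y hy =>
      rw [Set.mem_singleton_iff.1 hy, hT, ← map_mul, ← map_mul,
        show (s : H) * a * (s : H)⁻¹ = ((s * a * s⁻¹ : (P : Subgroup H)) : H) by simp, hr,
        Subgroup.coe_pow, map_pow]
      exact pow_mem (Algebra.self_mem_adjoin_singleton _ _) r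
    | algebraMap c =>
      rw [← (Algebra.commute_algebraMap_right c (ρ (s : H))).symm.eq, mul_assoc, ← map_mul,
        mul_inv_cancel, map_one, mul_one]
      exact Subalgebra.algebraMap_mem _ c
    | add y z _ _ hy hz =>
      rw [mul_add, add_mul]
      exact add_mem hy hz
    | mul y z _ _ hy hz =>
      have e : ρ (s : H) * (y * z) * ρ (s : H)⁻¹ =
          (ρ (s : H) * y * ρ (s : H)⁻¹) * (ρ (s : H) * z * ρ (s : H)⁻¹) := by
        simp only [← mul_assoc]
        rw [mul_assoc (ρ (s : H) * y) (ρ (s : H)⁻¹) (ρ (s : H)), ← map_mul, inv_mul_cancel,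
          map_one, mul_one]
      rw [e]
      exact mul_mem hy hz
  let σ : R →ₐ[ZMod q] R :=
    { toFun := fun x => ⟨ρ (s : H) * x * ρ (s : H)⁻¹, hconj x x.2⟩
      map_one' := Subtype.ext (by simp [← map_mul])
      map_mul' := fun x y => Subtype.ext (by
        show ρ (s : H) * ((x : Module.End (ZMod q) V) * y) * ρ (s : H)⁻¹ = (ρ (s : H) * x * ρ (s : H)⁻¹) * (ρ (s : H) * y * ρ (s : H)⁻¹)
        simp only [← mul_assoc]
        rw [mul_assoc (ρ (s : H) * x) (ρ (s : H)⁻¹) (ρ (s : H)), ← map_mul, inv_mul_cancel,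
          map_one, mul_one])
      map_zero' := Subtype.ext (by simp)
      map_add' := fun x y => Subtype.ext (by simp [mul_add, add_mul])
      commutes' := fun c => Subtype.ext (by
        show ρ (s : H) * algebraMap (ZMod q) _ c * ρ (s : H)⁻¹ = algebraMap (ZMod q) _ c
        rw [← (Algebra.commute_algebraMap_right c (ρ (s : H))).symm.eq, mul_assoc, ← map_mul,
          mul_inv_cancel, map_one, mul_one]) }
  obtain ⟨j, hj⟩ := (FiniteField.bijective_frobeniusAlgHom_pow (ZMod q) R).2 σ
  simp only [← hF] at hj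
  have hσt : (σ t : Module.End (ZMod q) V) = ρ ((a : H) ^ r) := by
    show ρ (s : H) * T * ρ (s : H)⁻¹ = _
    rw [hT, ← map_mul, ← map_mul, show (s : H) * a * (s : H)⁻¹ = ((s * a * s⁻¹ : (P : Subgroup H)) : H)
      by simp, hr, Subgroup.coe_pow]
  have h1 : (a : H) ^ q ^ (j : ℕ) = (a : H) ^ r :=
    C.injective ((hFpow j).symm.trans (hj ▸ hσt))
  rw [pow_eq_pow_iff_modEq, hoa] at h1
  have h4 : q ^ (j : ℕ) % 4 = 3 := by
    have := h1.of_dvd (pow_dvd_pow 2 hm : 2 ^ 2 ∣ 2 ^ m)
    unfold Nat.ModEq at this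
    norm_num at this
    omega
  have hjodd : (j : ℕ) % 2 = 1 := by
    by_contra hje
    obtain ⟨i, hi⟩ : ∃ i, (j : ℕ) = 2 * i := ⟨j / 2, by omega⟩
    rw [hi, pow_mul, Nat.pow_mod] at h4
    have : q ^ 2 % 4 = 1 := by
      rw [Nat.pow_mod]
      rcases (show q % 4 = 1 ∨ q % 4 = 3 by omega) with h | h <;> rw [h] <;> norm_num
    rw [this, one_pow] at h4
    norm_num at h4
  have h2j : d ∣ 2 * j := by
    rw [← hordF]
    refine orderOf_dvd_of_pow_eq_one (AlgHom.adjoin_ext fun x hx => ?_)
    obtain rfl := Set.mem_singleton_iff.1 hx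
    rw [two_mul, pow_add, AlgHom.mul_apply, hj]
    refine Subtype.ext ?_
    show ρ (s : H) * (ρ (s : H) * T * ρ (s : H)⁻¹) * ρ (s : H)⁻¹ = T
    rw [hT, ← map_mul, ← map_mul, ← map_mul, ← map_mul]
    congr 1
    have := congrArg Subtype.val (hcomm_mul _ hss)
    simpa [mul_assoc] using this
  obtain ⟨c, -, hc⟩ := (Nat.dvd_prime_pow Nat.prime_two).1 hdm
  rcases Nat.lt_or_ge c 2 with hc2 | hc2
  · rw [hc]
    exact (Nat.pow_le_pow_right (by norm_num) (Nat.le_of_lt_succ hc2)).trans (by norm_num)
  · exfalso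
    have h4d : 4 ∣ 2 * (j : ℕ) := (pow_dvd_pow 2 hc2).trans (hc ▸ h2j)
    omega

/-- There is no even configuration. -/
theorem Config.false_two (C : Config 2 ρ) : False := by
  classical
  haveI : Fact (Nat.Prime 2) := ⟨Nat.prime_two⟩
  obtain ⟨P⟩ : Nonempty (Sylow 2 H) := inferInstance
  have hd := C.finrank_le_two P
  -- non-zero vectors have trivial stabilisers
  have hfix : ∀ v : V, v ≠ 0 → ∀ h : H, ρ h v = v → h = 1 := by
    intro v hv h hh
    refine eq_one_of_stabilizes C.coprime C.injective fun w => ?_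
    have hdet : LinearMap.det (ρ h) = 1 := by
      have := apply_eq_one_of_commutator C.perfect
        ((Units.map (LinearMap.det : Module.End (ZMod q) V →* ZMod q)).comp ρ.toHomUnits) h
      exact congrArg Units.val this
    by_cases hd1 : Module.finrank (ZMod q) V ≤ 1
    · -- one dimensional
      obtain ⟨c, hc⟩ := (finrank_eq_one_iff_of_nonzero' v hv).1
        (le_antisymm hd1 (Module.finrank_pos_iff_exists_ne_zero.2 ⟨v, hv⟩)) w
      rw [← hc, map_smul, hh, sub_self, map_zero]
    · have h2 : Module.finrank (ZMod q) V = 2 := by omega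
      set b := Module.finBasisOfFinrankEq (ZMod q) V h2
      set N : Matrix (Fin 2) (Fin 2) (ZMod q) :=
        LinearMap.toMatrix b b (ρ h - LinearMap.id) with hN
      have hM : LinearMap.toMatrix b b (ρ h) = N + 1 := by
        rw [hN, map_sub, LinearMap.toMatrix_id, sub_add_cancel]
      have hN0 : N.det = 0 := by
        rw [hN, LinearMap.det_toMatrix]
        by_contra hne
        have : Function.Injective (ρ h - LinearMap.id : Module.End (ZMod q) V) := by
          rw [← LinearMap.ker_eq_bot]
          by_contra hk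
          exact hne (LinearMap.det_eq_zero_iff_ker_ne_bot.2 hk)
        exact hv (this (by simp [hh]))
      have hM1 : (N + 1).det = 1 := by rw [← hM, LinearMap.det_toMatrix, hdet]
      rw [Matrix.det_fin_two] at hN0 hM1
      simp [Matrix.one_apply] at hM1
      have htr : N 0 0 + N 1 1 = 0 := by linear_combination hM1 - hN0
      have hsq : N * N = 0 := by
        ext i k
        fin_cases i <;> fin_cases k <;> simp [Matrix.mul_apply, Fin.sum_univ_two]
        · linear_combination (N 0 0) * htr - hN0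
        · linear_combination (N 0 1) * htr
        · linear_combination (N 1 0) * htr
        · linear_combination (N 1 1) * htr - hN0
      rw [hN, ← LinearMap.toMatrix_mul, LinearEquiv.map_eq_zero_iff] at hsq
      have := congrArg (fun f : Module.End (ZMod q) V => f w) hsq
      simp only [Module.End.mul_apply, LinearMap.sub_apply, LinearMap.id_coe, id_eq,
        LinearMap.zero_apply] at this
      exact sub_eq_zero.1 this
  haveI : Nontrivial V := by
    by_contra h
    rw [not_nontrivial_iff_subsingleton] at h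
    haveI := C.nontrivial
    obtain ⟨x, y, hxy⟩ := exists_pair_ne H
    exact hxy (C.injective (LinearMap.ext fun v => Subsingleton.elim _ _))
  obtain ⟨v, hv⟩ := exists_ne (0 : V)
  obtain ⟨k, hk⟩ := C.ppow v
  have hbot : fixer ρ v = ⊥ := eq_bot_iff.2 fun h hh => Subgroup.mem_bot.2 (hfix v hv h hh)
  rw [hbot, Subgroup.index_bot] at hk
  haveI := (IsPGroup.of_card hk).isNilpotent
  exact C.not_solvable inferInstance

end CfsgLib.PPowOrbit
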